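import Cfsg.Agent.Lib.Recog.SporBound.PatternBound
import Cfsg.Agent.Lib.Recog.SporBound.Fi22Outer.AutData
import Cfsg.Agent.Lib.Known.AutPOmega.Sylow
import Cfsg.Agent.Lib.Schur.Coxeter.OmegaData

set_option autoImplicit false
set_option maxRecDepth 20000
set_option Elab.async false

/-!
The automorphism group of Ω⁺(8, 2) has order at most six times that of the group: automorphisms permute the root
elements of the 1575 singular lines, and a base of five lines bounds such permutations (owner: helper24).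
-/

namespace CfsgLib.Recog.SporBound.OmegaEightAut

open QuadraticMap (polar polarBilin)
open CfsgLib.Classical.Quad CfsgLib.Known.AutPOmega
open CfsgLib.Schur.Cox.OmegaEight (vec8)

local notation "Ix8" => (Fin 4 ⊕ Fin 4)

/-- The form. -/
abbrev Q8 : QuadraticForm (ZMod 2) (Ix8 → ZMod 2) := qPlus 4 (ZMod 2)

theorem big : Big Q8 := ⟨qPlus_nondeg 4, by simp⟩

/-- The form on codes. -/
def qC (a : ℕ) : Bool := Nat.testBit 27030 (Nat.land (Nat.land a 15) (Nat.shiftRight a 4))

/-- The polar form on codes. -/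
def bC (a b : ℕ) : Bool :=
  Nat.testBit 27030
    (Nat.xor (Nat.land (Nat.land a 15) (Nat.shiftRight b 4)) (Nat.land (Nat.shiftRight a 4) (Nat.land b 15)))

/-- The code of the line of two vectors. -/
def canon (a b : ℕ) : ℕ :=
  let c := Nat.xor a b
  let u := min a (min b c)
  u + 256 * Nat.xor u (max a (max b c))

/-- The image of a vector under the root element of a line. -/
def tr (c z : ℕ) : ℕ :=
  Nat.xor (Nat.xor z (cond (bC z (c / 256)) (c % 256) 0)) (cond (bC z (c % 256)) (c / 256) 0)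

/-- The conjugate of the root element of `d` by that of `c`. -/
def cjC (c d : ℕ) : ℕ := canon (tr c (d % 256)) (tr c (d / 256))

/-- The relation of two lines. -/
def relC (c d : ℕ) : ℕ :=
  let x := cjC c d
  cond (Nat.beq c d) 1 0 + cond (Nat.beq x d) 2 0 + cond (Nat.beq x (cjC d c)) 4 0

/-- A code of a line in normal form. -/
def lineB (c : ℕ) : Bool :=
  let u := c % 256
  let v := c / 256
  Nat.blt 0 u && Nat.blt u v && Nat.blt v 256 && Nat.blt v (Nat.xor u v) && !qC u && !qC v && !bC u v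

/-- The mask of the lines. -/
def lineMask : ℕ := lineData.foldr (fun c acc => Nat.lor acc (Nat.shiftLeft 1 c)) 0

/-- The check of a pair of vectors. -/
def pairOK (a b : ℕ) : Bool :=
  Nat.beq a 0 || Nat.beq b 0 || Nat.beq a b || qC a || qC b || bC a b || lineMask.testBit (canon a b)

/-- A check over pairs of vectors with the first in a band. -/
def bandAll (f : ℕ → ℕ → Bool) (j : ℕ) : Bool :=
  (List.range 32).all fun i => (List.range 256).all fun b => f (32 * j + i) b

/-- The lines reached. -/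
noncomputable def closeTo : List (ℕ × ℕ) → ℕ → ℕ :=
  fun l => List.rec (motive := fun _ => ℕ → ℕ) (fun acc => acc)
    (fun e _ ih acc => ih (cond (acc.testBit e.1 && Nat.blt e.2 5)
      (Nat.lor acc (Nat.shiftLeft 1 (cjC (genData.getD e.2 0) e.1))) acc)) l

/-- The five lines. -/
def genMask : ℕ := genData.foldr (fun c acc => Nat.lor acc (Nat.shiftLeft 1 c)) 0

theorem q_vec : ∀ a : Fin 256, Cfsg.quadFormPlus 4 (ZMod 2) (vec8 a.val) = cond (qC a.val) 1 0 := by
  decide +kernel

theorem bC_eq0 : bandAll (fun a b => bC a b == Bool.xor (qC (Nat.xor a b)) (Bool.xor (qC a) (qC b))) 0 = true := by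
  decide +kernel

theorem bC_eq1 : bandAll (fun a b => bC a b == Bool.xor (qC (Nat.xor a b)) (Bool.xor (qC a) (qC b))) 1 = true := by
  decide +kernel

theorem bC_eq2 : bandAll (fun a b => bC a b == Bool.xor (qC (Nat.xor a b)) (Bool.xor (qC a) (qC b))) 2 = true := by
  decide +kernel

theorem bC_eq3 : bandAll (fun a b => bC a b == Bool.xor (qC (Nat.xor a b)) (Bool.xor (qC a) (qC b))) 3 = true := by
  decide +kernel

theorem bC_eq4 : bandAll (fun a b => bC a b == Bool.xor (qC (Nat.xor a b)) (Bool.xor (qC a) (qC b))) 4 = true := by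
  decide +kernel

theorem bC_eq5 : bandAll (fun a b => bC a b == Bool.xor (qC (Nat.xor a b)) (Bool.xor (qC a) (qC b))) 5 = true := by
  decide +kernel

theorem bC_eq6 : bandAll (fun a b => bC a b == Bool.xor (qC (Nat.xor a b)) (Bool.xor (qC a) (qC b))) 6 = true := by
  decide +kernel

theorem bC_eq7 : bandAll (fun a b => bC a b == Bool.xor (qC (Nat.xor a b)) (Bool.xor (qC a) (qC b))) 7 = true := by
  decide +kernel

theorem vec_cover : ∀ v : Ix8 → ZMod 2, ∃ a : Fin 256, vec8 a.val = v := by
  intro v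
  have hb : ∀ k, (v k).val < 2 := fun k => ZMod.val_lt _
  set a := (v (.inl 0)).val + 2 * (v (.inl 1)).val + 4 * (v (.inl 2)).val + 8 * (v (.inl 3)).val +
    16 * (v (.inr 0)).val + 32 * (v (.inr 1)).val + 64 * (v (.inr 2)).val + 128 * (v (.inr 3)).val with ha
  have := hb (.inl 0); have := hb (.inl 1); have := hb (.inl 2); have := hb (.inl 3)
  have := hb (.inr 0); have := hb (.inr 1); have := hb (.inr 2); have := hb (.inr 3)
  refine ⟨⟨a, by omega⟩, funext fun c => ?_⟩
  rcases c with k | k <;> refine Eq.trans ?_ (ZMod.natCast_zmod_val (v _)) <;>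
    refine congrArg (fun n : ℕ => (n : ZMod 2)) ?_ <;> fin_cases k <;> simp <;> omega

theorem vec_zero : vec8 0 = 0 := by decide +kernel

theorem pair_ok0 : bandAll pairOK 0 = true := by decide +kernel

theorem pair_ok1 : bandAll pairOK 1 = true := by decide +kernel

theorem pair_ok2 : bandAll pairOK 2 = true := by decide +kernel

theorem pair_ok3 : bandAll pairOK 3 = true := by decide +kernel

theorem pair_ok4 : bandAll pairOK 4 = true := by decide +kernel

theorem pair_ok5 : bandAll pairOK 5 = true := by decide +kernel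

theorem pair_ok6 : bandAll pairOK 6 = true := by decide +kernel

theorem pair_ok7 : bandAll pairOK 7 = true := by decide +kernel

theorem band_all {f : ℕ → ℕ → Bool} (h : ∀ j < 8, bandAll f j = true) {a b : ℕ} (ha : a < 256) (hb : b < 256) :
    f a b = true := by
  have := List.all_eq_true.1 (List.all_eq_true.1 (h (a / 32) (by omega)) (a % 32) (List.mem_range.2 (by omega))) b
    (List.mem_range.2 hb)
  rwa [Nat.div_add_mod] at this

theorem bC_eq {a b : ℕ} (ha : a < 256) (hb : b < 256) :
    bC a b = Bool.xor (qC (Nat.xor a b)) (Bool.xor (qC a) (qC b)) := by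
  refine eq_of_beq (band_all (f := fun a b => bC a b == Bool.xor (qC (Nat.xor a b)) (Bool.xor (qC a) (qC b))) ?_ ha hb)
  intro j hj
  interval_cases j
  exacts [bC_eq0, bC_eq1, bC_eq2, bC_eq3, bC_eq4, bC_eq5, bC_eq6, bC_eq7]

theorem pair_ok {a b : ℕ} (ha : a < 256) (hb : b < 256) : pairOK a b = true := by
  refine band_all (f := pairOK) ?_ ha hb
  intro j hj
  interval_cases j
  exacts [pair_ok0, pair_ok1, pair_ok2, pair_ok3, pair_ok4, pair_ok5, pair_ok6, pair_ok7]

theorem line_ok : lineData.all lineB = true := by decide +kernel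

theorem stepsOK_append (L : List ℕ) : ∀ (A B : List PatternBound.Step) (kn : List ℕ),
    PatternBound.stepsOK cjC (fun c => c) relC (fun _ => 0) L (A ++ B) kn =
      (PatternBound.stepsOK cjC (fun c => c) relC (fun _ => 0) L A kn &&
        PatternBound.stepsOK cjC (fun c => c) relC (fun _ => 0) L B (PatternBound.known cjC (fun c => c) A kn))
  | [], B, kn => by simp [PatternBound.stepsOK, PatternBound.known]
  | .base u cols c :: A, B, kn => by
    simp only [List.cons_append, PatternBound.stepsOK, PatternBound.known, stepsOK_append L A B, Bool.and_assoc]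
  | .tu a :: A, B, kn => by
    simp only [List.cons_append, PatternBound.stepsOK, PatternBound.known, stepsOK_append L A B, Bool.and_assoc]
  | .cj a b :: A, B, kn => by
    simp only [List.cons_append, PatternBound.stepsOK, PatternBound.known, stepsOK_append L A B, Bool.and_assoc]

theorem steps_part0 :
    PatternBound.stepsOK cjC (fun c => c) relC (fun _ => 0) lineData (stepData.take 4) [] = true := by decide +kernel

theorem steps_part1 :
    PatternBound.stepsOK cjC (fun c => c) relC (fun _ => 0) lineData ((stepData.drop 4).take 6)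
      (PatternBound.known cjC (fun c => c) (stepData.take 4) []) = true := by decide +kernel

theorem steps_part2 :
    PatternBound.stepsOK cjC (fun c => c) relC (fun _ => 0) lineData ((stepData.drop 4).drop 6)
      (PatternBound.known cjC (fun c => c) ((stepData.drop 4).take 6)
        (PatternBound.known cjC (fun c => c) (stepData.take 4) [])) = true := by decide +kernel

theorem steps_ok : PatternBound.stepsOK cjC (fun c => c) relC (fun _ => 0) lineData stepData [] = true ∧
    PatternBound.total stepData ≤ 1045094400 ∧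
    genData.all (fun c => (PatternBound.known cjC (fun c => c) stepData []).contains c && lineData.contains c) = true ∧
    genData.length = 5 := by
  refine ⟨?_, ?_, ?_, ?_⟩
  · rw [← List.take_append_drop 4 stepData, stepsOK_append, steps_part0, ← List.take_append_drop 6 (stepData.drop 4),
      stepsOK_append, steps_part1, steps_part2]
    rfl
  all_goals decide +kernel

theorem reach_ok : lineData.all (fun c => (closeTo reachData genMask).testBit c) = true := by decide +kernel

theorem xor_lt {a b : ℕ} (ha : a < 256) (hb : b < 256) : Nat.xor a b < 256 := Nat.xor_lt_two_pow (n := 8) ha hb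

theorem mem_foldr_mask : ∀ (L : List ℕ) (p : ℕ),
    (L.foldr (fun c acc => Nat.lor acc (Nat.shiftLeft 1 c)) 0).testBit p = true ↔ p ∈ L
  | [], p => by simp
  | c :: L, p => by
    have h2 := mem_foldr_mask L p
    rw [List.foldr_cons, show ∀ x y, Nat.lor x y = x ||| y from fun _ _ => rfl,
      show ∀ x y, Nat.shiftLeft x y = x <<< y from fun _ _ => rfl, Nat.testBit_or, Bool.or_eq_true, h2,
      List.mem_cons, Nat.one_shiftLeft, Nat.testBit_two_pow, decide_eq_true_iff]
    exact ⟨fun h => h.elim Or.inr fun h => Or.inl h.symm, fun h => h.elim (fun h => Or.inr h.symm) Or.inl⟩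

theorem vec_xor (a b : ℕ) : vec8 (Nat.xor a b) = vec8 a + vec8 b := by
  have key : ∀ n : ℕ, ((Nat.xor a b / 2 ^ n % 2 : ℕ) : ZMod 2) =
      ((a / 2 ^ n % 2 : ℕ) : ZMod 2) + ((b / 2 ^ n % 2 : ℕ) : ZMod 2) := by
    intro n
    have h := Nat.testBit_xor a b n
    simp only [Nat.testBit_eq_decide_div_mod_eq] at h
    rcases Nat.mod_two_eq_zero_or_one (a / 2 ^ n) with ha | ha <;>
      rcases Nat.mod_two_eq_zero_or_one (b / 2 ^ n) with hb | hb <;>
        rcases Nat.mod_two_eq_zero_or_one ((a ^^^ b) / 2 ^ n) with hc | hc <;>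
          simp only [ha, hb, hc, show Nat.xor a b = a ^^^ b from rfl] at h ⊢ <;>
            first
              | decide
              | simp at h
  funext c
  rcases c with k | k <;> exact key _

theorem q8_vec {a : ℕ} (ha : a < 256) : Q8 (vec8 a) = cond (qC a) 1 0 := by
  rw [coe_qPlus]; exact q_vec ⟨a, ha⟩

theorem b8_vec {a b : ℕ} (ha : a < 256) (hb : b < 256) : polar Q8 (vec8 a) (vec8 b) = cond (bC a b) 1 0 := by
  have h := bC_eq ha hb
  rw [h, QuadraticMap.polar, ← vec_xor, q8_vec (xor_lt ha hb), q8_vec ha, q8_vec hb]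
  cases qC (Nat.xor a b) <;> cases qC a <;> cases qC b <;> decide

theorem vec_inj {a b : ℕ} (ha : a < 256) (hb : b < 256) (h : vec8 a = vec8 b) : a = b := by
  have hs : Function.Surjective fun a : Fin 256 => vec8 a.val := vec_cover
  have hbij := (Nat.bijective_iff_surjective_and_card (fun a : Fin 256 => vec8 a.val)).2 ⟨hs, by simp⟩
  exact congrArg Fin.val (hbij.1 (show vec8 (⟨a, ha⟩ : Fin 256).val = vec8 (⟨b, hb⟩ : Fin 256).val from h))

theorem linIndep {a b : ℕ} (ha : a < 256) (hb : b < 256) (ha0 : a ≠ 0) (hb0 : b ≠ 0) (hab : a ≠ b) :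
    LinearIndependent (ZMod 2) ![vec8 a, vec8 b] := by
  rw [LinearIndependent.pair_iff]
  intro s t h
  have hz : ∀ x : ZMod 2, x = 0 ∨ x = 1 := by decide
  rcases hz s with rfl | rfl <;> rcases hz t with rfl | rfl
  · exact ⟨rfl, rfl⟩
  · rw [zero_smul, zero_add, one_smul, ← vec_zero] at h
    exact absurd (vec_inj hb (by norm_num) h) hb0
  · rw [zero_smul, add_zero, one_smul, ← vec_zero] at h
    exact absurd (vec_inj ha (by norm_num) h) ha0
  · rw [one_smul, one_smul] at h
    refine absurd (vec_inj ha hb ?_) hab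
    have h2 : vec8 b + vec8 b = 0 := funext fun c => (by decide : ∀ x : ZMod 2, x + x = 0) _
    exact add_right_cancel (h.trans h2.symm)

theorem pair_code {c : ℕ} (h : lineB c = true) : Pair Q8 (vec8 (c % 256)) (vec8 (c / 256)) := by
  simp only [lineB, Bool.and_eq_true, Nat.blt_eq, Bool.not_eq_true'] at h
  obtain ⟨⟨⟨⟨⟨⟨h0, h1⟩, h2⟩, -⟩, hu⟩, hv⟩, huv⟩ := h
  refine ⟨?_, ?_, ?_, linIndep (by omega) h2 (by omega) (by omega) (by omega)⟩
  · rw [q8_vec (by omega), hu]; rfl
  · rw [q8_vec h2, hv]; rfl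
  · rw [b8_vec (by omega) h2, huv]; rfl

/-- The lines. -/
abbrev Ln : Type := {c : ℕ // c ∈ lineData}

theorem Ln.ok (c : Ln) : lineB c.1 = true := List.all_eq_true.1 line_ok _ c.2

/-- The root element of a line. -/
noncomputable def rootEl (c : ℕ) : POm Q8 := El big (vec8 (c % 256)) (vec8 (c / 256))

theorem El_mem_X {u v : Ix8 → ZMod 2} (h : Pair Q8 u v) {g : POm Q8} (hg : g ∈ X big u v) (hg1 : g ≠ 1) :
    g = El big u v := by
  obtain ⟨t, rfl⟩ := hg
  rcases (by decide : ∀ x : ZMod 2, x = 0 ∨ x = 1) t with rfl | rfl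
  · exact absurd (by show El big u ((0 : ZMod 2) • v) = 1; rw [zero_smul, El_zero]) hg1
  · show El big u ((1 : ZMod 2) • v) = _
    rw [one_smul]

theorem canon_spec {a b : ℕ} (ha : a < 256) (hb : b < 256) (h : Pair Q8 (vec8 a) (vec8 b)) :
    canon a b ∈ lineData ∧ El big (vec8 a) (vec8 b) = rootEl (canon a b) := by
  have ha0 : a ≠ 0 := fun e => h.ne_zero_left (by rw [e, vec_zero])
  have hb0 : b ≠ 0 := fun e => h.ne_zero_right (by rw [e, vec_zero])
  have hab : a ≠ b := fun e => h.not_mem_left (by rw [e]; exact Submodule.mem_span_singleton_self _)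
  have hok := pair_ok ha hb
  have hqa : qC a = false := by
    have := h.qu; rw [q8_vec ha] at this
    cases hh : qC a <;> simp [hh] at this ⊢
  have hqb : qC b = false := by
    have := h.qv; rw [q8_vec hb] at this
    cases hh : qC b <;> simp [hh] at this ⊢
  have hbab : bC a b = false := by
    have := h.uv; rw [b8_vec ha hb] at this
    cases hh : bC a b <;> simp [hh] at this ⊢
  simp only [pairOK, hqa, hqb, hbab, Bool.or_false, Bool.or_eq_true, Nat.beq_eq, ha0, hb0, hab, false_or] at hok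
  have hmem : canon a b ∈ lineData := (mem_foldr_mask lineData _).1 hok
  have hP := pair_code (List.all_eq_true.1 line_ok _ hmem)
  refine ⟨hmem, ?_⟩
  set c := Nat.xor a b
  have hc : c < 256 := xor_lt ha hb
  set u := min a (min b c) with hu
  set w := max a (max b c) with hw
  have e1 : canon a b % 256 = u ∧ canon a b / 256 = Nat.xor u w := by
    have hu' : u < 256 := by omega
    have : canon a b = u + 256 * Nat.xor u w := rfl
    rw [this]
    omega
  have hline : ∀ z : ℕ, z = a ∨ z = b ∨ z = c → vec8 z ∈ line (ZMod 2) (vec8 a) (vec8 b) := by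
    rintro z (rfl | rfl | rfl)
    · exact left_mem_line _ _
    · exact right_mem_line _ _
    · exact mem_line.2 ⟨1, 1, by rw [one_smul, one_smul, vec_xor]⟩
  have hu3 : u = a ∨ u = b ∨ u = c := by omega
  have hw3 : w = a ∨ w = b ∨ w = c := by omega
  have hv : vec8 (Nat.xor u w) ∈ line (ZMod 2) (vec8 a) (vec8 b) := by
    rw [vec_xor]; exact add_mem (hline u hu3) (hline w hw3)
  have hX : X big (vec8 (canon a b % 256)) (vec8 (canon a b / 256)) = X big (vec8 a) (vec8 b) := by
    rw [e1.1, e1.2] at hP ⊢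
    exact X_change big h (hline u hu3) hv hP.li
  refine El_mem_X hP ?_ ?_
  · rw [hX]; exact ⟨1, by show El big _ ((1 : ZMod 2) • vec8 b) = _; rw [one_smul]⟩
  · have := El_sing_ne_one big h (one_ne_zero (α := ZMod 2))
    rwa [one_smul] at this

theorem rootEl_inj {c d : Ln} (h : rootEl c.1 = rootEl d.1) : c = d := by
  have hc := c.ok
  have hd := d.ok
  have h1 := pair_code hc
  have h2 := pair_code hd
  simp only [lineB, Bool.and_eq_true, Nat.blt_eq] at hc hd
  have e := line_of_El_eq big h1 h2 (s := (1 : ZMod 2)) (t := 1) one_ne_zero (by rw [one_smul, one_smul]; exact h)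
  have key : ∀ z : ℕ, 0 < z → z < 256 → vec8 z ∈ line (ZMod 2) (vec8 (d.1 % 256)) (vec8 (d.1 / 256)) →
      z = d.1 % 256 ∨ z = d.1 / 256 ∨ z = Nat.xor (d.1 % 256) (d.1 / 256) := by
    intro z hz0 hz hm
    obtain ⟨s, t, hst⟩ := mem_line.1 hm
    have hz2 : ∀ x : ZMod 2, x = 0 ∨ x = 1 := by decide
    rcases hz2 s with rfl | rfl <;> rcases hz2 t with rfl | rfl
    · rw [zero_smul, zero_smul, add_zero, ← vec_zero] at hst
      exact absurd (vec_inj hz (by norm_num) hst) (by omega)
    · rw [zero_smul, zero_add, one_smul] at hst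
      exact Or.inr (Or.inl (vec_inj hz hd.1.1.1.1.2 hst))
    · rw [zero_smul, add_zero, one_smul] at hst
      exact Or.inl (vec_inj hz (by omega) hst)
    · rw [one_smul, one_smul, ← vec_xor] at hst
      exact Or.inr (Or.inr (vec_inj hz (xor_lt (by omega) hd.1.1.1.1.2) hst))
  have hx : ∀ x y : ℕ, Nat.xor x y = Nat.xor y x ∧ Nat.xor x (Nat.xor x y) = y ∧ Nat.xor (Nat.xor x y) x = y ∧
      Nat.xor (Nat.xor x y) y = x ∧ Nat.xor y (Nat.xor x y) = x := fun x y =>
    ⟨Nat.xor_comm x y, by
      show x ^^^ (x ^^^ y) = y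
      rw [← Nat.xor_assoc, Nat.xor_self, Nat.zero_xor], by
      show (x ^^^ y) ^^^ x = y
      rw [Nat.xor_comm (x ^^^ y), ← Nat.xor_assoc, Nat.xor_self, Nat.zero_xor], by
      show (x ^^^ y) ^^^ y = x
      rw [Nat.xor_assoc, Nat.xor_self, Nat.xor_zero], by
      show y ^^^ (x ^^^ y) = x
      rw [Nat.xor_comm x y, ← Nat.xor_assoc, Nat.xor_self, Nat.zero_xor]⟩
  have k1 := key _ hc.1.1.1.1.1.1 (by omega) e.1
  have k2 := key _ (by omega) hc.1.1.1.1.2 e.2
  obtain ⟨x1, x2, x3, x4, x5⟩ := hx (d.1 % 256) (d.1 / 256)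
  obtain ⟨⟨⟨⟨⟨⟨c0, c1⟩, c2⟩, c3⟩, -⟩, -⟩, -⟩ := hc
  obtain ⟨⟨⟨⟨⟨⟨d0, d1⟩, d2⟩, d3⟩, -⟩, -⟩, -⟩ := hd
  refine Subtype.ext ?_
  have hcd : c.1 % 256 = d.1 % 256 ∧ c.1 / 256 = d.1 / 256 := by
    rcases k1 with k1 | k1 | k1 <;> rcases k2 with k2 | k2 | k2 <;> rw [k1, k2] at c1 c3 ⊢ <;>
      (try simp only [x2, x3, x4, x5, and_self] at c1 c3 ⊢) <;> omega
  omega

theorem cj_spec (c d : Ln) : cjC c.1 d.1 ∈ lineData ∧
    rootEl (cjC c.1 d.1) = rootEl c.1 * rootEl d.1 * (rootEl c.1)⁻¹ := by
  have hc := pair_code c.ok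
  have hd := pair_code d.ok
  have bc := c.ok
  have bd := d.ok
  simp only [lineB, Bool.and_eq_true, Nat.blt_eq] at bc bd
  have lu : c.1 % 256 < 256 := Nat.mod_lt _ (by norm_num)
  have lv : c.1 / 256 < 256 := bc.1.1.1.1.2
  have hlt : ∀ z < 256, tr c.1 z < 256 := fun z hz => by
    unfold tr
    refine xor_lt (xor_lt hz ?_) ?_ <;> cases bC z _ <;> simp [lu, lv]
  have hvec : ∀ z < 256, ac (eps big (vec8 (c.1 % 256)) (vec8 (c.1 / 256))) (vec8 z) = vec8 (tr c.1 z) := by
    intro z hz
    have h := ac_eps_sing big hc (1 : ZMod 2) (vec8 z)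
    rw [one_smul] at h
    rw [h, b8_vec hz lv, b8_vec hz lu, tr, vec_xor, vec_xor]
    cases bC z (c.1 / 256) <;> cases bC z (c.1 % 256) <;>
      simp only [cond_true, cond_false, vec_zero, one_mul, mul_zero, neg_zero, zero_smul, add_zero, one_smul,
        show (-1 : ZMod 2) = 1 from by decide]
  have hperp : polar Q8 (vec8 (d.1 % 256)) (vec8 (d.1 / 256)) = 0 := hd.uv
  have h := conj_El big (eps big (vec8 (c.1 % 256)) (vec8 (c.1 / 256))) hd.qu hperp
  have hm := hd.map big (eps big (vec8 (c.1 % 256)) (vec8 (c.1 / 256)))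
  rw [hvec _ (Nat.mod_lt _ (by norm_num)), hvec _ bd.1.1.1.1.2] at h hm
  obtain ⟨hmem, he⟩ := canon_spec (hlt _ (Nat.mod_lt _ (by norm_num))) (hlt _ bd.1.1.1.1.2) hm
  exact ⟨hmem, he.symm.trans h.symm⟩

instance : Finite (OQ Q8) :=
  Finite.of_injective (fun g : OQ Q8 => ((g : (Ix8 → ZMod 2) ≃ₗ[ZMod 2] (Ix8 → ZMod 2)) : (Ix8 → ZMod 2) → (Ix8 → ZMod 2)))
    (fun g g' e => Subtype.ext (LinearEquiv.ext (congrFun e)))

instance : Finite (MulAut (POm Q8)) :=
  Finite.of_injective (fun α : MulAut (POm Q8) => (α : POm Q8 → POm Q8)) DFunLike.coe_injective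

theorem exists_image (β : MulAut (POm Q8)) (c : Ln) : ∃ d : Ln, rootEl d.1 = β (rootEl c.1) := by
  have h := pair_code c.ok
  obtain ⟨x, y, hxy, e⟩ := X_image big β h
  obtain ⟨a, rfl⟩ := vec_cover x
  obtain ⟨b, rfl⟩ := vec_cover y
  have hm : β (rootEl c.1) ∈ X big (vec8 a.val) (vec8 b.val) := e ▸
    ⟨_, ⟨1, by show El big _ ((1 : ZMod 2) • _) = _; rw [one_smul]; rfl⟩, rfl⟩
  have hne : β (rootEl c.1) ≠ 1 := fun h1 => by
    rw [← map_one β] at h1
    have := El_sing_ne_one big h (one_ne_zero (α := ZMod 2))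
    rw [one_smul] at this
    exact this (β.injective h1)
  obtain ⟨hmem, he⟩ := canon_spec a.2 b.2 hxy
  exact ⟨⟨_, hmem⟩, (he.symm.trans (El_mem_X hxy hm hne).symm)⟩

/-- The action on the lines. -/
noncomputable def act8 : MulAction (MulAut (POm Q8)) Ln where
  smul β c := (exists_image β c).choose
  one_smul c := rootEl_inj (by
    show rootEl (exists_image 1 c).choose.1 = _
    rw [(exists_image 1 c).choose_spec]
    rfl)
  mul_smul β γ c := rootEl_inj (by
    show rootEl (exists_image (β * γ) c).choose.1 = rootEl (exists_image β (exists_image γ c).choose).choose.1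
    rw [(exists_image (β * γ) c).choose_spec, (exists_image β _).choose_spec, (exists_image γ c).choose_spec]
    rfl)

theorem reach_sound (H : Subgroup (POm Q8)) (hgen : ∀ c ∈ genData, rootEl c ∈ H) :
    ∀ (l : List (ℕ × ℕ)) (acc : ℕ), (∀ c, acc.testBit c = true → c ∈ lineData ∧ rootEl c ∈ H) →
      ∀ c, (closeTo l acc).testBit c = true → c ∈ lineData ∧ rootEl c ∈ H
  | [], _, hacc, c, hc => hacc c hc
  | (x, k) :: l, acc, hacc, c, hc => by
    refine reach_sound H hgen l _ ?_ c hc
    intro d hd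
    cases hb : acc.testBit x && Nat.blt k 5 with
    | false =>
      simp only [hb, cond_false] at hd
      exact hacc d hd
    | true =>
      simp only [hb, cond_true] at hd
      rw [show ∀ x y, Nat.lor x y = x ||| y from fun _ _ => rfl,
        show ∀ x y, Nat.shiftLeft x y = x <<< y from fun _ _ => rfl, Nat.testBit_or, Bool.or_eq_true,
        Nat.one_shiftLeft, Nat.testBit_two_pow, decide_eq_true_iff] at hd
      rcases hd with hd | rfl
      · exact hacc d hd
      rw [Bool.and_eq_true, Nat.blt_eq] at hb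
      obtain ⟨hxm, hxH⟩ := hacc x hb.1
      have hgm : genData.getD k 0 ∈ genData := by
        rw [List.getD_eq_getElem _ _ (by rw [steps_ok.2.2.2]; exact hb.2)]; exact List.getElem_mem _
      have hgl : genData.getD k 0 ∈ lineData := by
        have := List.all_eq_true.1 steps_ok.2.2.1 _ hgm
        rw [Bool.and_eq_true] at this
        exact List.contains_iff_mem.1 this.2
      obtain ⟨hmem, he⟩ := cj_spec ⟨_, hgl⟩ ⟨x, hxm⟩
      exact ⟨hmem, he ▸ mul_mem (mul_mem (hgen _ hgm) hxH) (inv_mem (hgen _ hgm))⟩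

theorem closure_gens : Subgroup.closure {g : POm Q8 | ∃ c ∈ genData, rootEl c = g} = ⊤ := by
  set H := Subgroup.closure {g : POm Q8 | ∃ c ∈ genData, rootEl c = g}
  have hgen : ∀ c ∈ genData, rootEl c ∈ H := fun c hc => Subgroup.subset_closure ⟨c, hc, rfl⟩
  have hline : ∀ c : Ln, rootEl c.1 ∈ H := fun c => by
    refine (reach_sound H hgen reachData genMask (fun d hd => ?_) c.1 (List.all_eq_true.1 reach_ok _ c.2)).2
    rw [genMask, mem_foldr_mask] at hd
    have := List.all_eq_true.1 steps_ok.2.2.1 _ hd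
    rw [Bool.and_eq_true] at this
    exact ⟨List.contains_iff_mem.1 this.2, hgen d hd⟩
  set K := Subgroup.closure (Set.range fun c : Ln => rootEl c.1)
  have hK : K ≤ H := (Subgroup.closure_le _).2 fun _ ⟨c, e⟩ => e ▸ hline c
  haveI : IsSimpleGroup (POm Q8) := isSimpleGroup_Omega_quotient (qPlus_nondeg 4) (by simp)
  haveI hn : K.Normal := ⟨fun x hx g => by
    induction hx using Subgroup.closure_induction with
    | mem y hy =>
      obtain ⟨c, rfl⟩ := hy
      obtain ⟨d, hd⟩ := exists_image (MulAut.conj g) c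
      rw [MulAut.conj_apply] at hd
      exact Subgroup.subset_closure ⟨d, hd⟩
    | one => rw [mul_one, mul_inv_cancel]; exact one_mem _
    | mul a b _ _ ha hb =>
      rw [show g * (a * b) * g⁻¹ = g * a * g⁻¹ * (g * b * g⁻¹) by group]
      exact mul_mem ha hb
    | inv a _ ha =>
      rw [show g * a⁻¹ * g⁻¹ = (g * a * g⁻¹)⁻¹ by group]
      exact inv_mem ha⟩
  rcases hn.eq_bot_or_eq_top with h | h
  · exfalso
    have hc : lineData.getD 0 0 ∈ lineData := by decide +kernel
    have hm : rootEl (lineData.getD 0 0) ∈ K := Subgroup.subset_closure ⟨⟨_, hc⟩, rfl⟩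
    rw [h, Subgroup.mem_bot] at hm
    have := El_sing_ne_one big (pair_code (Ln.ok ⟨_, hc⟩)) (one_ne_zero (α := ZMod 2))
    rw [one_smul] at this
    exact this hm
  · exact eq_top_iff.2 (h ▸ hK)

/-- The automorphisms of PΩ⁺(8, 2) number at most 1045094400. -/
theorem card_aut_le : Nat.card (MulAut (POm Q8)) ≤ 1045094400 := by
  letI := act8
  have hs : ∀ (β : MulAut (POm Q8)) (c : Ln), rootEl (β • c).1 = β (rootEl c.1) := fun β c =>
    (exists_image β c).choose_spec
  have hcj : ∀ (β : MulAut (POm Q8)) (x y : Ln),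
      cjC (β • x).1 (β • y).1 = (β • (⟨cjC x.1 y.1, (cj_spec x y).1⟩ : Ln)).1 := fun β x y => by
    have e : (⟨cjC (β • x).1 (β • y).1, (cj_spec _ _).1⟩ : Ln) = β • (⟨cjC x.1 y.1, (cj_spec x y).1⟩ : Ln) :=
      rootEl_inj (by rw [(cj_spec _ _).2, hs, hs, hs, (cj_spec x y).2, map_mul, map_mul, map_inv])
    exact congrArg Subtype.val e
  have hinj : ∀ (β : MulAut (POm Q8)) (x y : Ln), (β • x).1 = (β • y).1 ↔ x.1 = y.1 := fun β x y =>
    ⟨fun h => congrArg Subtype.val (MulAction.injective β (Subtype.ext h)),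
      fun h => by rw [Subtype.ext h]⟩
  have C : PatternBound.Compat (H := MulAut (POm Q8)) cjC (fun c => c) relC (fun _ => 0) (fun c : Ln => c.1)
      lineData := by
    refine ⟨fun x y e => Subtype.ext e, fun x => x.2, fun c hc => ⟨⟨c, hc⟩, rfl⟩,
      fun x y => ⟨⟨_, (cj_spec x y).1⟩, rfl, fun h => (hcj h x y).symm⟩, fun x => ⟨x, rfl, fun _ => rfl⟩,
      fun h x y => ?_, fun _ _ => rfl⟩
    simp only [relC]
    rw [hcj, hcj, show Nat.beq (h • x).1 (h • y).1 = Nat.beq x.1 y.1 from by
        rw [Bool.eq_iff_iff, Nat.beq_eq, Nat.beq_eq, hinj],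
      show Nat.beq (h • (⟨cjC x.1 y.1, (cj_spec x y).1⟩ : Ln)).1 (h • y).1 = Nat.beq (cjC x.1 y.1) y.1 from by
        rw [Bool.eq_iff_iff, Nat.beq_eq, Nat.beq_eq, hinj],
      show Nat.beq (h • (⟨cjC x.1 y.1, (cj_spec x y).1⟩ : Ln)).1 (h • (⟨cjC y.1 x.1, (cj_spec y x).1⟩ : Ln)).1 =
          Nat.beq (cjC x.1 y.1) (cjC y.1 x.1) from by
        rw [Bool.eq_iff_iff, Nat.beq_eq, Nat.beq_eq, hinj]]
  refine le_trans (PatternBound.card_le C steps_ok.1 ?_) steps_ok.2.1
  rw [Subgroup.eq_bot_iff_forall]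
  intro β hβ
  refine MulEquiv.toMonoidHom_injective (MonoidHom.eq_of_eqOn_dense closure_gens ?_)
  rintro _ ⟨c, hc, rfl⟩
  have h1 := List.all_eq_true.1 steps_ok.2.2.1 _ hc
  rw [Bool.and_eq_true] at h1
  have h2 := hs β ⟨c, List.contains_iff_mem.1 h1.2⟩
  rw [hβ ⟨c, List.contains_iff_mem.1 h1.2⟩ (List.contains_iff_mem.1 h1.1)] at h2
  exact h2.symm

/-- The automorphisms of Ω⁺(8, 2) number at most 1045094400. -/
theorem card_aut_Om_le : Nat.card (MulAut CfsgLib.Schur.Cox.OmegaEight.Om) ≤ 1045094400 := by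
  let e0 : CfsgLib.Schur.Cox.OmegaEight.Om ≃* commutator (OQ Q8) := by
    have h := omegaEquiv Q8
    rwa [coe_qPlus] at h
  have hc : Subgroup.center (commutator (OQ Q8)) = ⊥ := by
    haveI : Finite (commutator (OQ Q8)) := Finite.of_equiv _ e0.toEquiv
    exact Subgroup.eq_bot_of_card_eq _ ((Nat.card_congr (Subgroup.centerCongr e0).toEquiv).symm.trans
      CfsgLib.Schur.Cox.OmegaEight.card_center_Om)
  let e : CfsgLib.Schur.Cox.OmegaEight.Om ≃* POm Q8 :=
    e0.trans (QuotientGroup.quotientBot.symm.trans (QuotientGroup.quotientMulEquivOfEq hc.symm))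
  rw [Nat.card_congr (MulAut.congr e).toEquiv]
  exact card_aut_le

end CfsgLib.Recog.SporBound.OmegaEightAut
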