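import Cfsg.Agent.Lib.Recog.SporBound.Fi22Outer.StructChecks.Zero
import Cfsg.Agent.Lib.Recog.SporBound.Fi22Outer.StructChecks.One
import Cfsg.Agent.Lib.Recog.SporBound.Fi22Outer.StructChecks.Two

/-! Kernel checks for the structure of the fixed groups of the outer involutions of Fi22 (owner: helper24; split by helper18). -/
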