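import Cfsg.Agent.Lib.Recog.SporBound.Fi22Outer.Inner
import Cfsg.Agent.Lib.Recog.SporBound.Fi22Outer.StructChecks

set_option autoImplicit false
set_option maxRecDepth 20000

/-!
Elements permuting the blocks of a list of rows, and actions of matrix groups on listed vectors (owner: helper24).
-/

namespace CfsgLib.Recog.SporBound.Fi22Outer

open CfsgLib.Recog.SporBound.Fi22Pair
open CfsgLib.Recog.SporBound.Fi22Aut
open scoped Matrix

theorem nodup_of_distinct : ∀ l : List ℕ, distinctB l = true → l.Nodup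
  | [], _ => List.nodup_nil
  | a :: l, h => by
    rw [distinctB, Bool.and_eq_true, List.all_eq_true] at h
    exact List.nodup_cons.2 ⟨fun ha => by simpa using h.1 a ha, nodup_of_distinct l h.2⟩

theorem idxOf_getD {L : List ℕ} (hd : L.Nodup) {i : ℕ} (hi : i < L.length) : L.idxOf (L.getD i 0) = i := by
  rw [List.getD_eq_getElem _ _ hi]
  exact hd.idxOf_getElem _ hi

theorem getD_idxOf {L : List ℕ} {x : ℕ} (h : L.idxOf x < L.length) : L.getD (L.idxOf x) 0 = x := by
  rw [List.getD_eq_getElem _ _ h]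
  exact List.getElem_idxOf h

/-- A list of `n` rows in `k` blocks of `d`. -/
structure Rows (n k : ℕ) where
  /-- the list -/
  L : List ℕ
  /-- the length of a block -/
  d : ℕ
  len : L.length = n
  lt : ∀ i < n, L.getD i 0 < 3510
  nodup : L.Nodup
  size : k * d = n
  pos : 0 < d

namespace Rows

variable {n k : ℕ} (P : Rows n k)

/-- The rows. -/
noncomputable def R (i : Fin n) : Row := ⟨P.L.getD i 0, P.lt i i.2⟩

theorem R_inj : Function.Injective P.R := fun i j e => by
  have h := congrArg (fun r : Row => P.L.idxOf (r : ℕ)) e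
  simp only [R] at h
  rw [idxOf_getD P.nodup (by rw [P.len]; exact i.2), idxOf_getD P.nodup (by rw [P.len]; exact j.2)] at h
  exact Fin.ext h

/-- The block of a position. -/
def blk (i : Fin n) : Fin k := ⟨(i : ℕ) / P.d, Nat.div_lt_of_lt_mul (by
  have h := i.2
  have h' := P.size
  rw [mul_comm]
  omega)⟩

/-- The first position of a block. -/
def fst (b : Fin k) : Fin n := ⟨(b : ℕ) * P.d, by
  have h := Nat.mul_lt_mul_of_pos_right b.2 P.pos
  have h' := P.size
  omega⟩

theorem blk_fst (b : Fin k) : P.blk (P.fst b) = b := Fin.ext (Nat.mul_div_cancel _ P.pos)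

theorem blk_surj : Function.Surjective P.blk := fun b => ⟨_, P.blk_fst b⟩

end Rows

/-- The permutation of listed vectors by a group of matrices. -/
noncomputable def permHom {M : Type*} [Group M] {ι : Type} [Fintype ι] [DecidableEq ι] {F : Type} [CommRing F]
    (φ : M →* Matrix ι ι F) {P : (ι → F) → Prop} (hP : ∀ g v, P v → P (φ g *ᵥ v)) {k : ℕ}
    (e : Fin k ≃ {v // P v}) : M →* Equiv.Perm (Fin k) where
  toFun g :=
    { toFun := fun i => e.symm ⟨φ g *ᵥ (e i).1, hP g _ (e i).2⟩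
      invFun := fun i => e.symm ⟨φ g⁻¹ *ᵥ (e i).1, hP _ _ (e i).2⟩
      left_inv := fun i => by simp [Matrix.mulVec_mulVec, ← map_mul]
      right_inv := fun i => by simp [Matrix.mulVec_mulVec, ← map_mul] }
  map_one' := Equiv.ext fun i => by simp
  map_mul' g h := Equiv.ext fun i => by simp [Matrix.mulVec_mulVec]

theorem permHom_apply {M : Type*} [Group M] {ι : Type} [Fintype ι] [DecidableEq ι] {F : Type} [CommRing F]
    (φ : M →* Matrix ι ι F) {P : (ι → F) → Prop} (hP : ∀ g v, P v → P (φ g *ᵥ v)) {k : ℕ}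
    (e : Fin k ≃ {v // P v}) (g : M) (i : Fin k) : (e (permHom φ hP e g i)).1 = φ g *ᵥ (e i).1 := by
  simp [permHom]

theorem permHom_injective {M : Type*} [Group M] {ι : Type} [Fintype ι] [DecidableEq ι] {F : Type} [CommRing F]
    (φ : M →* Matrix ι ι F) {P : (ι → F) → Prop} (hP : ∀ g v, P v → P (φ g *ᵥ v)) {k : ℕ}
    (e : Fin k ≃ {v // P v}) (hφ : Function.Injective φ)
    (hspan : ∀ c : ι, P (Pi.single c 1) ∨ ∃ a, P a ∧ P (Pi.single c 1 + a)) :
    Function.Injective (permHom φ hP e) := by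
  intro g h hgh
  have key : ∀ v, P v → φ g *ᵥ v = φ h *ᵥ v := fun v hv => by
    have h1 := permHom_apply φ hP e g (e.symm ⟨v, hv⟩)
    have h2 := permHom_apply φ hP e h (e.symm ⟨v, hv⟩)
    rw [hgh] at h1
    simp only [Equiv.apply_symm_apply] at h1 h2
    exact h1.symm.trans h2
  refine hφ (Matrix.ext fun i c => ?_)
  have hc : φ g *ᵥ Pi.single c 1 = φ h *ᵥ Pi.single c 1 := by
    rcases hspan c with hc | ⟨a, ha, hca⟩
    · exact key _ hc
    · have h1 := key _ hca
      rw [Matrix.mulVec_add, Matrix.mulVec_add, key _ ha] at h1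
      exact add_right_cancel h1
  simpa [Matrix.mulVec_single] using congrFun hc i

end CfsgLib.Recog.SporBound.Fi22Outer

namespace CfsgLib.Recog.SporBound.Fi22Pair.Frame

open CfsgLib.Recog.SporBound.Fi22Outer
open CfsgLib.Recog.SporBound.Fi22Aut

variable {A : Type*} [Group A] (F : Frame A) {n k : ℕ} (P : Rows n k)

/-- An element inducing a permutation of the blocks. -/
def MapsP (α : A) (π : Equiv.Perm (Fin k)) : Prop :=
  ∀ i, ∃ j, F.θ α (P.R i) = P.R j ∧ P.blk j = π (P.blk i)

/-- The elements permuting the blocks. -/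
noncomputable def Maps : Subgroup A where
  carrier := {α | ∃ π, F.MapsP P α π}
  one_mem' := ⟨1, fun i => ⟨i, by rw [map_one]; rfl, rfl⟩⟩
  mul_mem' := by
    rintro α β ⟨π, hπ⟩ ⟨π', hπ'⟩
    refine ⟨π * π', fun i => ?_⟩
    obtain ⟨j, hj, hbj⟩ := hπ' i
    obtain ⟨l, hl, hbl⟩ := hπ j
    exact ⟨l, by rw [map_mul, Equiv.Perm.mul_apply, hj, hl], by rw [hbl, hbj, Equiv.Perm.mul_apply]⟩
  inv_mem' := by
    rintro α ⟨π, hπ⟩
    choose g hg hb using hπ
    have hinj : Function.Injective g := fun i j e => P.R_inj ((F.θ α).injective (by rw [hg, hg, e]))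
    refine ⟨π⁻¹, fun j => ?_⟩
    obtain ⟨i, rfl⟩ := Finite.surjective_of_injective hinj j
    exact ⟨i, by rw [← hg i, map_inv, Equiv.Perm.coe_inv, Equiv.symm_apply_apply],
      by rw [hb, Equiv.Perm.coe_inv, Equiv.symm_apply_apply]⟩

theorem mapsP_unique {α : A} {π π' : Equiv.Perm (Fin k)} (h : F.MapsP P α π) (h' : F.MapsP P α π') : π = π' :=
  Equiv.ext fun b => by
    obtain ⟨i, rfl⟩ := P.blk_surj b
    obtain ⟨j, hj, hb⟩ := h i
    obtain ⟨j', hj', hb'⟩ := h' i
    obtain rfl := P.R_inj (hj.symm.trans hj')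
    rw [← hb, ← hb']

/-- The permutation of the blocks. -/
noncomputable def proj : F.Maps P →* Equiv.Perm (Fin k) where
  toFun α := α.2.choose
  map_one' := F.mapsP_unique P (1 : F.Maps P).2.choose_spec fun i => ⟨i, by
    rw [Subgroup.coe_one, map_one]; rfl, rfl⟩
  map_mul' α β := F.mapsP_unique P (α * β).2.choose_spec fun i => by
    obtain ⟨j, hj, hbj⟩ := β.2.choose_spec i
    obtain ⟨l, hl, hbl⟩ := α.2.choose_spec j
    exact ⟨l, by rw [Subgroup.coe_mul, map_mul, Equiv.Perm.mul_apply, hj, hl],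
      by rw [hbl, hbj, Equiv.Perm.mul_apply]⟩

theorem proj_spec (α : F.Maps P) : F.MapsP P (α : A) (F.proj P α) := α.2.choose_spec

theorem mem_maps_el {e : Bool × List ℕ} (hf : Fits e) (h : mapsB P.L P.d e = true) :
    ∃ hm : F.el e ∈ F.Maps P, ∀ b : Fin k, ((F.proj P ⟨F.el e, hm⟩ b : Fin k) : ℕ) = blkImg P.L P.d e b := by
  have hidx : ∀ i : Fin n, ∃ j : Fin n, F.θ (F.el e) (P.R i) = P.R j ∧
      ((P.blk j : Fin k) : ℕ) = blkImg P.L P.d e (P.blk i) := by
    intro i
    have h1 := List.all_eq_true.1 h (i : ℕ) (List.mem_range.2 (P.len.symm ▸ i.2))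
    simp only [Bool.and_eq_true, Nat.blt_eq, Nat.beq_eq] at h1
    refine ⟨⟨_, P.len ▸ h1.1⟩, Fin.ext ?_, ?_⟩
    · rw [F.el_spec hf]
      exact (getD_idxOf h1.1).symm
    · exact h1.2
  choose g hg hb using hidx
  have hinj : Function.Injective g := fun i j ee => P.R_inj ((F.θ (F.el e)).injective (by rw [hg, hg, ee]))
  let φ : Fin k → Fin k := fun b => P.blk (g (P.fst b))
  have hφ : ∀ i, P.blk (g i) = φ (P.blk i) := fun i => Fin.ext (by rw [hb, hb, P.blk_fst])
  have hsurj : Function.Surjective φ := fun b => by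
    obtain ⟨j, rfl⟩ := P.blk_surj b
    obtain ⟨i, rfl⟩ := Finite.surjective_of_injective hinj j
    exact ⟨P.blk i, (hφ i).symm⟩
  let π := Equiv.ofBijective φ (Finite.surjective_iff_bijective.1 hsurj)
  have hm : F.MapsP P (F.el e) π := fun i => ⟨g i, hg i, hφ i⟩
  refine ⟨⟨π, hm⟩, fun b => ?_⟩
  rw [show F.proj P ⟨F.el e, π, hm⟩ = π from F.mapsP_unique P (F.proj_spec P _) hm]
  show ((P.blk (g (P.fst b)) : Fin k) : ℕ) = _
  rw [hb, P.blk_fst]

variable {M : Type*} [Group M] (ι : M →* Equiv.Perm (Fin k))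

/-- The elements acting on the blocks like members of a given group. -/
noncomputable def Lifts : Subgroup A := (ι.range.comap (F.proj P)).map (F.Maps P).subtype

theorem mem_lifts {α : A} : α ∈ F.Lifts P ι ↔ ∃ h : α ∈ F.Maps P, F.proj P ⟨α, h⟩ ∈ ι.range := by
  constructor
  · rintro ⟨⟨x, hx⟩, hr, rfl⟩
    exact ⟨hx, hr⟩
  · rintro ⟨h, hr⟩
    exact ⟨⟨α, h⟩, hr, rfl⟩

theorem lifts_le : F.Lifts P ι ≤ F.Maps P := Subgroup.map_subtype_le _

/-- The lift of the action on the blocks. -/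
noncomputable def lift (hι : Function.Injective ι) : F.Lifts P ι →* M :=
  (MonoidHom.ofInjective hι).symm.toMonoidHom.comp
    (((F.proj P).comp (Subgroup.inclusion (F.lifts_le P ι))).codRestrict ι.range fun x => by
      obtain ⟨h, hr⟩ := (F.mem_lifts P ι).1 x.2
      exact hr)

theorem lift_spec (hι : Function.Injective ι) (x : F.Lifts P ι) :
    ι (F.lift P ι hι x) = F.proj P ⟨(x : A), F.lifts_le P ι x.2⟩ := by
  show ι ((MonoidHom.ofInjective hι).symm _) = _
  rw [MonoidHom.apply_ofInjective_symm]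
  rfl

end CfsgLib.Recog.SporBound.Fi22Pair.Frame
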