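import Cfsg.Agent.Lib.Recog.SporBound.Fi22Outer.FixChecks.One
import Cfsg.Agent.Lib.Recog.SporBound.Fi22Outer.FixChecks.B0
import Cfsg.Agent.Lib.Recog.SporBound.Fi22Outer.FixChecks.B1
import Cfsg.Agent.Lib.Recog.SporBound.Fi22Outer.FixChecks.B2

/-! Kernel checks of the bounds for the centralizers of the outer involutions of Fi22 (owner: helper24; split by helper18). -/
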