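import Cfsg.Agent.Lib.Recog.SporBound.Fi22Outer.Classify
import Cfsg.Agent.Lib.Recog.SporBound.Fi22Outer.FixChecks

set_option autoImplicit false
set_option maxRecDepth 20000

/-!
Upper bounds for the fixed groups of the representatives of the outer involutions (owner: helper24).
-/

namespace CfsgLib.Recog.SporBound.Fi22Pair.Frame

open CfsgLib.Recog.SporBound.Fi22Outer
open CfsgLib.Recog.SporBound.Fi22Aut
open CfsgLib.Recog.SporBound.Fi22Group (act)

variable {A : Type*} [Group A] (F : Frame A)

/-- The inner elements commuting with a representative. -/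
noncomputable def Fx (i : ℕ) : Subgroup A := F.Inner ⊓ Subgroup.centralizer ({F.rep3 i} : Set A)

theorem mem_Fx {i : ℕ} {α : A} : α ∈ F.Fx i ↔ α ∈ F.Inner ∧ α * F.rep3 i = F.rep3 i * α :=
  and_congr_right fun _ => Subgroup.mem_centralizer_singleton_iff

variable [Finite A]

theorem rep3_spec {i : ℕ} (hi : i < 3) (c : Row) : ((F.θ (F.rep3 i) c : Row) : ℕ) = ev (repD i) c :=
  F.el_spec (rep_fitsR hi) c

theorem rep3_sq {i : ℕ} (hi : i < 3) : F.rep3 i * F.rep3 i = 1 :=
  F.eq_of_agree (f := fun c => ev (repD i) (ev (repD i) c)) (g := id)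
    (F.mul_spec (F.rep3_spec hi) (F.rep3_spec hi)) F.one_spec (by
    interval_cases i <;> decide +kernel)

theorem rep3_outer {i : ℕ} (hi : i < 3) : F.rep3 i ∉ F.Inner := by
  have h := rep_fitsR hi
  interval_cases i <;> exact F.el_outer h

theorem card_cent_le {i g : ℕ} (hi : i < 3) (hok : boundOK i g = true) :
    Nat.card (Subgroup.centralizer ({F.rep3 i} : Set A)) ≤ 2 * g := by
  simp only [boundOK, Bool.and_eq_true, Nat.ble_eq] at hok
  obtain ⟨⟨hsteps, htot⟩, hgl⟩ := hok
  set H := Subgroup.centralizer ({F.rep3 i} : Set A)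
  letI actH : MulAction H Row := MulAction.compHom Row (F.θ.comp H.subtype)
  have hsmul : ∀ (h : H) (x : Row), h • x = F.θ (h : A) x := fun _ _ => rfl
  have hcomm : ∀ (h : H) (x : Row), F.θ (h : A) (F.θ (F.rep3 i) x) = F.θ (F.rep3 i) (F.θ (h : A) x) := fun h x => by
    rw [← Equiv.Perm.mul_apply, ← map_mul, Subgroup.mem_centralizer_singleton_iff.1 h.2, map_mul,
      Equiv.Perm.mul_apply]
  have hfx : ∀ (h : H) (x : Row), Nat.beq (ev (repD i) (F.θ (h : A) x : Row)) ((F.θ (h : A) x : Row) : ℕ) =
      Nat.beq (ev (repD i) x) x := fun h x => by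
    rw [← F.rep3_spec hi, ← F.rep3_spec hi, ← hcomm, Bool.eq_iff_iff, Nat.beq_eq, Nat.beq_eq, Fin.val_inj,
      Fin.val_inj, (F.θ (h : A)).injective.eq_iff]
  have C : PatternBound.Compat (H := H) cjN (ev (repD i)) relN (invN i) (fun x : Row => (x : ℕ))
      (List.range 3510) := by
    refine ⟨fun x y e => Fin.ext e, fun x => List.mem_range.2 x.2, fun c hc => ⟨⟨c, List.mem_range.1 hc⟩, rfl⟩,
      fun x y => ⟨act (T x) y, (trace_pal x y).symm, fun h => ?_⟩,
      fun x => ⟨F.θ (F.rep3 i) x, F.rep3_spec hi x, fun h => ?_⟩, fun h x y => ?_, fun h x => ?_⟩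
    · simp only [hsmul]
      rw [F.equi]
      exact (trace_pal _ _).symm
    · simp only [hsmul]
      rw [hcomm]
      exact F.rep3_spec hi _
    · simp only [hsmul, relN]
      rw [show Nat.beq (F.θ (h : A) x : Row) ((F.θ (h : A) y : Row) : ℕ) = Nat.beq x y from by
        rw [Bool.eq_iff_iff, Nat.beq_eq, Nat.beq_eq, Fin.val_inj, Fin.val_inj, (F.θ (h : A)).injective.eq_iff],
        F.comB_map]
    · simp only [hsmul, invN]
      rw [hfx, ← F.rep3_spec hi, ← F.rep3_spec hi, ← hcomm, F.comB_map]
      congr 2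
      rw [F.rep3_spec hi]
      cases hb : Nat.beq (ev (repD i) x) x with
      | false => rfl
      | true =>
        rw [Bool.true_and, Bool.true_and]
        rcases eq_or_ne i 1 with rfl | hne
        · simp only [fixList, Nat.beq_refl, cond_true]
          have hmem : ∀ r : Row, (r : ℕ) ∈ fixOne ↔ Nat.beq (ev (repD 1) r) r = true := fun r => by
            have := eq_of_beq (List.all_eq_true.1 fixOne_ok r (List.mem_range.2 r.2))
            rw [this, List.contains_iff_mem]
          have hlt : ∀ c ∈ fixOne, c < 3510 := by decide +kernel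
          rw [Bool.eq_iff_iff, List.all_eq_true, List.all_eq_true]
          constructor
          · intro hall c hc
            set p : Row := ⟨c, hlt c hc⟩
            have := hall _ ((hmem (F.θ (h : A) p)).2 (by rw [hfx]; exact (hmem p).1 hc))
            rwa [F.comB_map] at this
          · intro hall c hc
            obtain ⟨p, hp⟩ := (F.θ (h : A)).surjective ⟨c, hlt c hc⟩
            have h1 := (hmem (F.θ (h : A) p)).1 (by rw [hp]; exact hc)
            rw [hfx] at h1
            have := hall _ ((hmem p).2 h1)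
            rwa [← F.comB_map (h : A), hp] at this
        · simp [fixList, show Nat.beq i 1 = false from Bool.eq_false_iff.2 fun e => hne (Nat.eq_of_beq_eq_true e)]
  refine le_trans (PatternBound.card_le C hsteps ?_) htot
  rw [Subgroup.eq_bot_iff_forall]
  intro h hh
  refine Subtype.ext (F.ext9 _ _ fun x hx => ?_)
  have hlen : glData.length = 9 := rfl
  have hm := List.all_eq_true.1 hgl (glData.getD x 0) (by
    rw [List.getD_eq_getElem _ _ (hlen ▸ hx)]; exact List.getElem_mem _)
  rw [Subgroup.coe_one, map_one]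
  exact hh (gl x) (List.contains_iff_mem.1 hm)

/-- The orders of the fixed groups are bounded. -/
theorem card_Fx_le {i g : ℕ} (hi : i < 3) (hok : boundOK i g = true) : Nat.card (F.Fx i) ≤ g := by
  have h := F.card_cent_le hi hok
  have key := Nat.card_le_card_of_injective
    (fun p : Bool × F.Fx i => (⟨cond p.1 (F.rep3 i) 1 * (p.2 : A), mul_mem (by
      cases p.1
      · exact one_mem _
      · exact Subgroup.mem_centralizer_singleton_iff.2 rfl) p.2.2.2⟩ : Subgroup.centralizer ({F.rep3 i} : Set A)))
    (by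
      rintro ⟨a, x, hx⟩ ⟨b, y, hy⟩ e
      have e' : cond a (F.rep3 i) 1 * x = cond b (F.rep3 i) 1 * y := congrArg Subtype.val e
      have ho := F.rep3_outer hi
      have hxI : x ∈ F.Inner := hx.1
      have hyI : y ∈ F.Inner := hy.1
      cases a <;> cases b <;> simp only [cond_true, cond_false, one_mul] at e'
      · subst e'; rfl
      · exact absurd ((Subgroup.mul_mem_cancel_right _ hyI).1 (e' ▸ hxI)) ho
      · exact absurd ((Subgroup.mul_mem_cancel_right _ hxI).1 (e'.symm ▸ hyI)) ho
      · obtain rfl := mul_left_cancel e'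
        rfl)
  rw [Nat.card_prod, Nat.card_eq_fintype_card (α := Bool), Fintype.card_bool] at key
  omega

end CfsgLib.Recog.SporBound.Fi22Pair.Frame
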