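import Cfsg.Agent.Lib.Recog.SporBound.Fi22Outer.Cert.C20
import Cfsg.Agent.Lib.Recog.SporBound.Fi22Outer.Cert.C21
import Cfsg.Agent.Lib.Recog.SporBound.Fi22Outer.Cert.C22
import Cfsg.Agent.Lib.Recog.SporBound.Fi22Outer.Cert.C23

/-! Kernel check of the classes of outer involutions of Fi22 over root 2: the four quarters (owner: helper24). -/
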