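import Cfsg.Agent.Lib.Recog.SporBound.Fi22Outer.Checks.QInner
import Cfsg.Agent.Lib.Recog.SporBound.Fi22Outer.Checks.Inv
import Cfsg.Agent.Lib.Recog.SporBound.Fi22Outer.Checks.Distinct

set_option autoImplicit false
set_option maxRecDepth 20000
set_option Elab.async false

/-! Kernel checks for the classes of outer involutions of Fi22 (owner: helper24; split by helper18). -/

namespace CfsgLib.Recog.SporBound.Fi22Outer

open CfsgLib.Recog.SporBound.Fi22Pair

theorem root_lt : (List.range 3).all (fun i => (rootData.getD i []).all fun j => Nat.blt j 45) = true := by
  decide +kernel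

theorem odd_fix : Nat.beq (ev oddData 0) 0 = true := by decide +kernel

theorem rep_fits : repData.all (fun e => e.2.all fun r => Nat.blt r 3510) = true := by decide +kernel

end CfsgLib.Recog.SporBound.Fi22Outer
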