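import Cfsg.Agent.Lib.Recog.SporBound.Check

set_option autoImplicit false
set_option maxRecDepth 20000

/-! Certificates for the classes of outer involutions of Fi22 (owner: helper24). -/

namespace CfsgLib.Recog.SporBound.Fi22Outer

/-- The representatives. -/
def repData : List (Bool × List ℕ) := [(true, []), (true, [7]), (true, [7, 9])]

/-- For each fibre, a word carrying the first fibre to it. -/
def moveData : List (List ℕ) := [[], [8, 2], [10], [17, 9], [14, 5], [8], [14, 2], [9, 2], [5], [13], [2], [9, 5], [15, 2], [9], [17], [18], [20, 2], [14], [15], [23], [24], [32, 2], [25, 2], [19], [20], [27], [31], [25], [33, 2], [23, 2], [33], [26], [37], [30], [38], [39], [40], [32], [34], [35], [36], [43], [44], [41], [42]]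

/-- The stabiliser of the first fibre in the transvection group: a word; for an involutory coset element also a
conjugating word and one more than the number of its class. -/
def stabData : List (List ℕ × List ℕ × ℕ) := [([], [], 0),
  ([0], [], 0),
  ([1], [], 1),
  ([3], [], 0),
  ([4], [], 0),
  ([6], [], 0),
  ([7], [], 0),
  ([11], [], 0),
  ([12], [1], 1),
  ([16], [], 0),
  ([21], [], 0),
  ([22], [], 0),
  ([28], [], 0),
  ([29], [], 0),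
  ([1, 0], [28, 4, 1], 1),
  ([3, 0], [], 0),
  ([4, 0], [], 0),
  ([6, 0], [], 0),
  ([7, 0], [], 0),
  ([11, 0], [], 0),
  ([12, 0], [28, 4], 1),
  ([16, 0], [], 0),
  ([21, 0], [], 0),
  ([22, 0], [], 0),
  ([28, 0], [], 0),
  ([29, 0], [], 0),
  ([3, 1], [], 2),
  ([4, 1], [], 0),
  ([6, 1], [], 0),
  ([7, 1], [], 0),
  ([11, 1], [], 0),
  ([12, 1], [], 0),
  ([16, 1], [], 0),
  ([21, 1], [], 0),
  ([22, 1], [], 0),
  ([28, 1], [], 0),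
  ([29, 1], [], 3),
  ([4, 3], [], 0),
  ([6, 3], [], 0),
  ([7, 3], [], 0),
  ([11, 3], [], 0),
  ([12, 3], [1], 2),
  ([16, 3], [], 0),
  ([21, 3], [], 0),
  ([22, 3], [], 0),
  ([28, 3], [], 0),
  ([29, 3], [], 0),
  ([7, 4], [], 0),
  ([12, 4], [], 0),
  ([16, 4], [], 0),
  ([21, 4], [], 0),
  ([22, 4], [], 0),
  ([28, 4], [], 0),
  ([29, 4], [], 0),
  ([11, 6], [], 0),
  ([12, 6], [], 0),
  ([16, 6], [], 0),
  ([21, 6], [], 0),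
  ([22, 6], [], 0),
  ([28, 6], [], 0),
  ([29, 6], [], 0),
  ([12, 7], [], 0),
  ([16, 7], [], 0),
  ([21, 7], [], 0),
  ([22, 7], [], 0),
  ([28, 7], [], 0),
  ([29, 7], [], 0),
  ([12, 11], [], 0),
  ([16, 11], [], 0),
  ([21, 11], [], 0),
  ([22, 11], [], 0),
  ([28, 11], [], 0),
  ([29, 11], [], 0),
  ([29, 12], [1], 3),
  ([28, 16], [], 0),
  ([22, 21], [], 0),
  ([4, 1, 0], [], 0),
  ([6, 1, 0], [], 0),
  ([7, 1, 0], [], 0),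
  ([11, 1, 0], [], 0),
  ([16, 1, 0], [], 0),
  ([21, 1, 0], [], 0),
  ([22, 1, 0], [], 0),
  ([28, 1, 0], [], 0),
  ([4, 3, 0], [], 0),
  ([6, 3, 0], [], 0),
  ([7, 3, 0], [], 0),
  ([11, 3, 0], [], 0),
  ([16, 3, 0], [], 0),
  ([21, 3, 0], [], 0),
  ([22, 3, 0], [], 0),
  ([28, 3, 0], [], 0),
  ([12, 4, 0], [], 0),
  ([21, 4, 0], [], 0),
  ([22, 4, 0], [], 0),
  ([29, 4, 0], [], 0),
  ([12, 6, 0], [], 0),
  ([16, 6, 0], [], 0),
  ([28, 6, 0], [], 0),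
  ([29, 6, 0], [], 0),
  ([12, 7, 0], [], 0),
  ([21, 7, 0], [], 0),
  ([22, 7, 0], [], 0),
  ([29, 7, 0], [], 0),
  ([12, 11, 0], [], 0),
  ([16, 11, 0], [], 0),
  ([28, 11, 0], [], 0),
  ([29, 11, 0], [], 0),
  ([4, 3, 1], [6], 1),
  ([6, 3, 1], [], 0),
  ([7, 3, 1], [], 0),
  ([11, 3, 1], [7], 1),
  ([16, 3, 1], [], 0),
  ([21, 3, 1], [16], 1),
  ([22, 3, 1], [], 0),
  ([28, 3, 1], [22], 1),
  ([7, 4, 1], [], 0),
  ([12, 4, 1], [], 0),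
  ([16, 4, 1], [], 0),
  ([21, 4, 1], [], 0),
  ([22, 4, 1], [], 0),
  ([28, 4, 1], [], 0),
  ([29, 4, 1], [], 0),
  ([11, 6, 1], [], 0),
  ([12, 6, 1], [], 0),
  ([16, 6, 1], [4], 1),
  ([21, 6, 1], [], 0),
  ([22, 6, 1], [], 0),
  ([28, 6, 1], [], 0),
  ([29, 6, 1], [21], 1),
  ([12, 7, 1], [], 0),
  ([16, 7, 1], [], 0),
  ([21, 7, 1], [], 0),
  ([22, 7, 1], [11], 1),
  ([28, 7, 1], [], 0),
  ([29, 7, 1], [28], 1),
  ([12, 11, 1], [], 0),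
  ([16, 11, 1], [], 0),
  ([21, 11, 1], [], 0),
  ([22, 11, 1], [], 0),
  ([28, 11, 1], [], 0),
  ([29, 11, 1], [], 0),
  ([28, 16, 1], [], 0),
  ([22, 21, 1], [], 0),
  ([40, 26, 2], [], 0),
  ([43, 31, 2], [], 0),
  ([44, 34, 2], [], 0),
  ([39, 38, 2], [], 0),
  ([12, 4, 3], [6, 1], 1),
  ([16, 4, 3], [], 0),
  ([21, 4, 3], [], 0),
  ([22, 4, 3], [], 0),
  ([28, 4, 3], [21, 6], 1),
  ([29, 4, 3], [], 0),
  ([12, 6, 3], [], 0),
  ([16, 6, 3], [], 0),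
  ([21, 6, 3], [], 0),
  ([22, 6, 3], [11, 6], 1),
  ([28, 6, 3], [22, 1], 1),
  ([29, 6, 3], [], 0),
  ([12, 7, 3], [], 0),
  ([16, 7, 3], [7, 4], 1),
  ([21, 7, 3], [16, 1], 1),
  ([22, 7, 3], [], 0),
  ([28, 7, 3], [], 0),
  ([29, 7, 3], [], 0),
  ([12, 11, 3], [7, 1], 1),
  ([16, 11, 3], [], 0),
  ([21, 11, 3], [16, 4], 1),
  ([22, 11, 3], [], 0),
  ([28, 11, 3], [], 0),
  ([29, 11, 3], [], 0),
  ([12, 7, 4], [], 0),
  ([21, 7, 4], [], 0),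
  ([22, 7, 4], [11, 1], 1),
  ([29, 7, 4], [], 0),
  ([29, 12, 4], [], 0),
  ([22, 21, 4], [28, 1], 1),
  ([37, 20, 5], [], 0),
  ([43, 24, 5], [], 0),
  ([30, 25, 5], [], 0),
  ([42, 27, 5], [], 0),
  ([12, 11, 6], [], 0),
  ([16, 11, 6], [4, 1], 1),
  ([28, 11, 6], [], 0),
  ([29, 11, 6], [], 0),
  ([29, 12, 6], [21, 1], 1),
  ([28, 16, 6], [], 0),
  ([35, 15, 9], [], 0),
  ([32, 18, 9], [], 0),
  ([25, 19, 9], [], 0),
  ([36, 23, 9], [], 0),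
  ([26, 15, 14], [], 0),
  ([33, 18, 14], [], 0),
  ([20, 19, 14], [], 0),
  ([38, 23, 14], [], 0),
  ([40, 26, 2, 0], [], 0),
  ([43, 31, 2, 0], [], 0),
  ([44, 34, 2, 0], [], 0),
  ([39, 38, 2, 0], [], 0),
  ([37, 20, 5, 0], [], 0),
  ([43, 24, 5, 0], [], 0),
  ([30, 25, 5, 0], [], 0),
  ([42, 27, 5, 0], [], 0),
  ([35, 15, 9, 0], [], 0),
  ([32, 18, 9, 0], [], 0),
  ([25, 19, 9, 0], [], 0),
  ([36, 23, 9, 0], [], 0),
  ([26, 15, 14, 0], [], 0),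
  ([33, 18, 14, 0], [], 0),
  ([20, 19, 14, 0], [], 0),
  ([38, 23, 14, 0], [], 0),
  ([40, 26, 2, 1], [39, 38, 2], 1),
  ([43, 31, 2, 1], [36, 23, 9], 1),
  ([44, 34, 2, 1], [43, 31, 2], 1),
  ([39, 38, 2, 1], [38, 23, 14], 1),
  ([16, 4, 3, 1], [], 0),
  ([28, 4, 3, 1], [6], 3),
  ([21, 6, 3, 1], [], 0),
  ([22, 6, 3, 1], [11], 2),
  ([16, 7, 3, 1], [4], 2),
  ([28, 7, 3, 1], [], 0),
  ([21, 11, 3, 1], [7], 3),
  ([22, 11, 3, 1], [], 0),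
  ([12, 7, 4, 1], [], 0),
  ([29, 7, 4, 1], [], 0),
  ([37, 20, 5, 1], [], 0),
  ([43, 24, 5, 1], [], 0),
  ([30, 25, 5, 1], [], 0),
  ([42, 27, 5, 1], [], 0),
  ([12, 11, 6, 1], [], 0),
  ([29, 11, 6, 1], [], 0),
  ([35, 15, 9, 1], [], 0),
  ([32, 18, 9, 1], [], 0),
  ([25, 19, 9, 1], [40, 26, 2], 1),
  ([36, 23, 9, 1], [20, 19, 14], 1),
  ([26, 15, 14, 1], [], 0),
  ([33, 18, 14, 1], [], 0),
  ([20, 19, 14, 1], [44, 34, 2], 1),
  ([38, 23, 14, 1], [25, 19, 9], 1),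
  ([40, 26, 3, 2], [], 0),
  ([43, 31, 3, 2], [], 0),
  ([44, 34, 3, 2], [], 0),
  ([39, 38, 3, 2], [], 0),
  ([40, 26, 4, 2], [39, 38, 4, 2], 1),
  ([39, 38, 4, 2], [], 0),
  ([30, 15, 6, 2], [], 0),
  ([31, 18, 6, 2], [], 0),
  ([34, 19, 6, 2], [], 0),
  ([24, 23, 6, 2], [42, 20, 14, 2], 1),
  ([37, 15, 7, 2], [], 0),
  ([39, 18, 7, 2], [], 0),
  ([40, 19, 7, 2], [], 0),
  ([27, 23, 7, 2], [43, 25, 9, 2], 1),
  ([31, 20, 8, 2], [], 0),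
  ([26, 24, 8, 2], [], 0),
  ([39, 25, 8, 2], [], 0),
  ([35, 27, 8, 2], [], 0),
  ([38, 30, 8, 2], [], 0),
  ([40, 32, 8, 2], [], 0),
  ([34, 33, 8, 2], [], 0),
  ([37, 36, 8, 2], [], 0),
  ([38, 15, 9, 2], [], 0),
  ([34, 18, 9, 2], [], 0),
  ([31, 19, 9, 2], [], 0),
  ([26, 23, 9, 2], [44, 34, 2], 2),
  ([43, 25, 9, 2], [], 0),
  ([41, 27, 9, 2], [], 0),
  ([44, 32, 9, 2], [], 0),
  ([42, 37, 9, 2], [38, 23, 14, 1], 1),
  ([35, 13, 12, 2], [43, 31, 2, 1], 1),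
  ([30, 14, 12, 2], [36, 23, 9, 1], 1),
  ([26, 17, 12, 2], [39, 38, 2, 1], 1),
  ([40, 26, 13, 2], [], 0),
  ([43, 31, 13, 2], [], 0),
  ([39, 38, 13, 2], [], 0),
  ([36, 15, 14, 2], [], 0),
  ([40, 18, 14, 2], [], 0),
  ([39, 19, 14, 2], [], 0),
  ([42, 20, 14, 2], [], 0),
  ([35, 23, 14, 2], [40, 26, 2], 2),
  ([44, 24, 14, 2], [], 0),
  ([41, 33, 14, 2], [], 0),
  ([43, 17, 15, 2], [], 0),
  ([34, 17, 16, 2], [], 0),
  ([39, 38, 17, 2], [], 0),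
  ([37, 20, 5, 3], [], 0),
  ([43, 24, 5, 3], [], 0),
  ([30, 25, 5, 3], [], 0),
  ([42, 27, 5, 3], [], 0),
  ([35, 15, 9, 3], [], 0),
  ([32, 18, 9, 3], [], 0),
  ([25, 19, 9, 3], [], 0),
  ([36, 23, 9, 3], [], 0),
  ([26, 15, 14, 3], [], 0),
  ([33, 18, 14, 3], [], 0),
  ([20, 19, 14, 3], [], 0),
  ([38, 23, 14, 3], [], 0),
  ([37, 20, 5, 4], [], 0),
  ([43, 24, 5, 4], [], 0),
  ([30, 25, 5, 4], [27, 23, 7, 2], 1),
  ([42, 27, 5, 4], [], 0),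
  ([32, 18, 9, 4], [], 0),
  ([25, 19, 9, 4], [], 0),
  ([26, 15, 14, 4], [], 0),
  ([33, 18, 14, 4], [], 0),
  ([20, 19, 14, 4], [44, 34, 2, 1], 1),
  ([38, 23, 14, 4], [], 0),
  ([37, 20, 6, 5], [], 0),
  ([42, 27, 6, 5], [32, 30, 17, 9], 1),
  ([24, 15, 9, 5], [], 0),
  ([20, 18, 9, 5], [], 0),
  ([33, 19, 9, 5], [], 0),
  ([30, 23, 9, 5], [20, 19, 14, 1], 1),
  ([43, 35, 9, 5], [43, 31, 2], 2),
  ([44, 36, 9, 5], [], 0),
  ([41, 39, 9, 5], [], 0),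
  ([42, 40, 9, 5], [], 0),
  ([37, 15, 11, 5], [], 0),
  ([39, 18, 11, 5], [], 0),
  ([40, 19, 11, 5], [], 0),
  ([27, 23, 11, 5], [40, 26, 2, 1], 1),
  ([25, 13, 12, 5], [], 0),
  ([34, 14, 12, 5], [], 0),
  ([37, 20, 13, 5], [24, 23, 6, 2], 1),
  ([43, 24, 13, 5], [], 0),
  ([42, 27, 13, 5], [], 0),
  ([27, 15, 14, 5], [], 0),
  ([25, 18, 14, 5], [], 0),
  ([32, 19, 14, 5], [], 0),
  ([37, 23, 14, 5], [25, 19, 9, 1], 1),
  ([42, 26, 14, 5], [39, 38, 2], 2),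
  ([44, 31, 14, 5], [], 0),
  ([41, 38, 14, 5], [], 0),
  ([26, 15, 14, 7], [], 0),
  ([38, 23, 14, 7], [], 0),
  ([17, 16, 15, 9], [40, 26, 4, 2], 1),
  ([27, 20, 17, 9], [], 0),
  ([25, 24, 17, 9], [], 0),
  ([39, 26, 17, 9], [36, 23, 9], 3),
  ([32, 30, 17, 9], [], 0),
  ([37, 33, 17, 9], [], 0),
  ([36, 34, 17, 9], [42, 27, 6, 5], 1),
  ([40, 38, 17, 9], [43, 31, 2], 3),
  ([26, 24, 23, 15], [], 0),
  ([35, 27, 23, 15], [], 0),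
  ([38, 30, 23, 15], [], 0),
  ([37, 36, 23, 15], [], 0),
  ([37, 33, 27, 20], [40, 26, 2], 3),
  ([42, 41, 27, 20], [], 0),
  ([41, 39, 38, 26], [25, 19, 9], 3),
  ([42, 40, 38, 26], [], 0),
  ([40, 26, 2, 1, 0], [43, 24, 5], 1),
  ([43, 31, 2, 1, 0], [37, 20, 5], 1),
  ([44, 34, 2, 1, 0], [42, 27, 5], 1),
  ([39, 38, 2, 1, 0], [30, 25, 5], 1),
  ([37, 20, 5, 1, 0], [], 0),
  ([43, 24, 5, 1, 0], [], 0),
  ([30, 25, 5, 1, 0], [], 0),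
  ([42, 27, 5, 1, 0], [], 0),
  ([35, 15, 9, 1, 0], [], 0),
  ([32, 18, 9, 1, 0], [], 0),
  ([25, 19, 9, 1, 0], [32, 18, 9], 1),
  ([36, 23, 9, 1, 0], [35, 15, 9], 1),
  ([26, 15, 14, 1, 0], [], 0),
  ([33, 18, 14, 1, 0], [], 0),
  ([20, 19, 14, 1, 0], [33, 18, 14], 1),
  ([38, 23, 14, 1, 0], [26, 15, 14], 1),
  ([40, 26, 3, 2, 0], [], 0),
  ([43, 31, 3, 2, 0], [], 0),
  ([44, 34, 3, 2, 0], [], 0),
  ([39, 38, 3, 2, 0], [], 0),
  ([40, 26, 4, 2, 0], [44, 32, 9, 2], 1),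
  ([39, 38, 4, 2, 0], [], 0),
  ([30, 15, 6, 2, 0], [], 0),
  ([31, 18, 6, 2, 0], [], 0),
  ([34, 19, 6, 2, 0], [], 0),
  ([24, 23, 6, 2, 0], [30, 15, 6, 2], 1),
  ([37, 15, 7, 2, 0], [], 0),
  ([39, 18, 7, 2, 0], [], 0),
  ([40, 19, 7, 2, 0], [], 0),
  ([27, 23, 7, 2, 0], [37, 15, 7, 2], 1),
  ([31, 20, 8, 2, 0], [], 0),
  ([26, 24, 8, 2, 0], [], 0),
  ([39, 25, 8, 2, 0], [], 0),
  ([35, 27, 8, 2, 0], [], 0),
  ([38, 30, 8, 2, 0], [], 0),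
  ([40, 32, 8, 2, 0], [], 0),
  ([34, 33, 8, 2, 0], [], 0),
  ([37, 36, 8, 2, 0], [], 0),
  ([38, 15, 9, 2, 0], [], 0),
  ([34, 18, 9, 2, 0], [], 0),
  ([31, 19, 9, 2, 0], [], 0),
  ([26, 23, 9, 2, 0], [30, 25, 5], 3),
  ([43, 25, 9, 2, 0], [], 0),
  ([41, 27, 9, 2, 0], [], 0),
  ([44, 32, 9, 2, 0], [], 0),
  ([42, 37, 9, 2, 0], [30, 25, 5, 1], 1),
  ([35, 13, 12, 2, 0], [42, 27, 5, 1], 1),
  ([30, 14, 12, 2, 0], [37, 20, 5, 1], 1),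
  ([26, 17, 12, 2, 0], [43, 24, 5, 1], 1),
  ([40, 26, 13, 2, 0], [], 0),
  ([43, 31, 13, 2, 0], [], 0),
  ([39, 38, 13, 2, 0], [], 0),
  ([36, 15, 14, 2, 0], [], 0),
  ([40, 18, 14, 2, 0], [], 0),
  ([39, 19, 14, 2, 0], [], 0),
  ([42, 20, 14, 2, 0], [], 0),
  ([35, 23, 14, 2, 0], [37, 20, 5], 3),
  ([44, 24, 14, 2, 0], [], 0),
  ([41, 33, 14, 2, 0], [], 0),
  ([43, 17, 15, 2, 0], [], 0),
  ([34, 17, 16, 2, 0], [], 0),
  ([39, 38, 17, 2, 0], [], 0),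
  ([37, 20, 5, 3, 0], [], 0),
  ([43, 24, 5, 3, 0], [], 0),
  ([30, 25, 5, 3, 0], [], 0),
  ([42, 27, 5, 3, 0], [], 0),
  ([35, 15, 9, 3, 0], [], 0),
  ([32, 18, 9, 3, 0], [], 0),
  ([25, 19, 9, 3, 0], [], 0),
  ([36, 23, 9, 3, 0], [], 0),
  ([26, 15, 14, 3, 0], [], 0),
  ([33, 18, 14, 3, 0], [], 0),
  ([20, 19, 14, 3, 0], [], 0),
  ([38, 23, 14, 3, 0], [], 0),
  ([37, 20, 5, 4, 0], [], 0),
  ([43, 24, 5, 4, 0], [], 0),
  ([30, 25, 5, 4, 0], [38, 30, 8, 2], 1),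
  ([42, 27, 5, 4, 0], [], 0),
  ([32, 18, 9, 4, 0], [], 0),
  ([25, 19, 9, 4, 0], [], 0),
  ([26, 15, 14, 4, 0], [], 0),
  ([33, 18, 14, 4, 0], [], 0),
  ([20, 19, 14, 4, 0], [33, 18, 14, 1], 1),
  ([38, 23, 14, 4, 0], [], 0),
  ([37, 20, 6, 5, 0], [], 0),
  ([42, 27, 6, 5, 0], [26, 24, 8, 2], 1),
  ([24, 15, 9, 5, 0], [], 0),
  ([20, 18, 9, 5, 0], [], 0),
  ([33, 19, 9, 5, 0], [], 0),
  ([30, 23, 9, 5, 0], [35, 15, 9, 1], 1),
  ([43, 35, 9, 5, 0], [42, 27, 5], 3),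
  ([44, 36, 9, 5, 0], [], 0),
  ([41, 39, 9, 5, 0], [], 0),
  ([42, 40, 9, 5, 0], [], 0),
  ([37, 15, 11, 5, 0], [], 0),
  ([39, 18, 11, 5, 0], [], 0),
  ([40, 19, 11, 5, 0], [], 0),
  ([27, 23, 11, 5, 0], [32, 18, 9, 1], 1),
  ([25, 13, 12, 5, 0], [], 0),
  ([34, 14, 12, 5, 0], [], 0),
  ([37, 20, 13, 5, 0], [34, 33, 8, 2], 1),
  ([43, 24, 13, 5, 0], [], 0),
  ([42, 27, 13, 5, 0], [], 0),
  ([27, 15, 14, 5, 0], [], 0),
  ([25, 18, 14, 5, 0], [], 0),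
  ([32, 19, 14, 5, 0], [], 0),
  ([37, 23, 14, 5, 0], [26, 15, 14, 1], 1),
  ([42, 26, 14, 5, 0], [43, 24, 5], 3),
  ([44, 31, 14, 5, 0], [], 0),
  ([41, 38, 14, 5, 0], [], 0),
  ([26, 15, 14, 7, 0], [], 0),
  ([38, 23, 14, 7, 0], [], 0),
  ([17, 16, 15, 9, 0], [31, 20, 8, 2], 1),
  ([27, 20, 17, 9, 0], [], 0),
  ([25, 24, 17, 9, 0], [], 0),
  ([39, 26, 17, 9, 0], [37, 20, 5], 2),
  ([32, 30, 17, 9, 0], [], 0),
  ([37, 33, 17, 9, 0], [], 0),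
  ([36, 34, 17, 9, 0], [39, 38, 13, 2], 1),
  ([40, 38, 17, 9, 0], [43, 24, 5], 2),
  ([26, 24, 23, 15, 0], [], 0),
  ([35, 27, 23, 15, 0], [], 0),
  ([38, 30, 23, 15, 0], [], 0),
  ([37, 36, 23, 15, 0], [], 0),
  ([37, 33, 27, 20, 0], [32, 18, 9], 2),
  ([42, 41, 27, 20, 0], [], 0),
  ([41, 39, 38, 26, 0], [35, 15, 9], 2),
  ([42, 40, 38, 26, 0], [], 0),
  ([40, 26, 3, 2, 1], [], 0),
  ([43, 31, 3, 2, 1], [], 0),
  ([44, 34, 3, 2, 1], [], 0),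
  ([39, 38, 3, 2, 1], [], 0),
  ([31, 18, 6, 2, 1], [], 0),
  ([34, 19, 6, 2, 1], [], 0),
  ([39, 18, 7, 2, 1], [], 0),
  ([40, 19, 7, 2, 1], [], 0),
  ([34, 18, 9, 2, 1], [], 0),
  ([31, 19, 9, 2, 1], [], 0),
  ([41, 27, 9, 2, 1], [], 0),
  ([42, 37, 9, 2, 1], [], 0),
  ([35, 13, 12, 2, 1], [], 0),
  ([30, 14, 12, 2, 1], [], 0),
  ([26, 17, 12, 2, 1], [], 0),
  ([43, 31, 13, 2, 1], [], 0),
  ([40, 18, 14, 2, 1], [], 0),
  ([39, 19, 14, 2, 1], [], 0),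
  ([44, 24, 14, 2, 1], [], 0),
  ([39, 38, 17, 2, 1], [], 0),
  ([37, 20, 5, 3, 1], [], 0),
  ([43, 24, 5, 3, 1], [], 0),
  ([30, 25, 5, 3, 1], [], 0),
  ([42, 27, 5, 3, 1], [], 0),
  ([35, 15, 9, 3, 1], [], 0),
  ([32, 18, 9, 3, 1], [], 0),
  ([25, 19, 9, 3, 1], [], 0),
  ([36, 23, 9, 3, 1], [], 0),
  ([26, 15, 14, 3, 1], [], 0),
  ([33, 18, 14, 3, 1], [], 0),
  ([20, 19, 14, 3, 1], [], 0),
  ([38, 23, 14, 3, 1], [], 0),
  ([37, 20, 5, 4, 1], [], 0),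
  ([42, 27, 5, 4, 1], [], 0),
  ([33, 18, 14, 4, 1], [], 0),
  ([20, 19, 14, 4, 1], [], 0),
  ([24, 15, 9, 5, 1], [], 0),
  ([30, 23, 9, 5, 1], [], 0),
  ([41, 39, 9, 5, 1], [], 0),
  ([42, 40, 9, 5, 1], [], 0),
  ([37, 15, 11, 5, 1], [], 0),
  ([27, 23, 11, 5, 1], [], 0),
  ([25, 13, 12, 5, 1], [], 0),
  ([34, 14, 12, 5, 1], [], 0),
  ([43, 24, 13, 5, 1], [], 0),
  ([27, 15, 14, 5, 1], [], 0),
  ([37, 23, 14, 5, 1], [], 0),
  ([44, 31, 14, 5, 1], [], 0),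
  ([31, 18, 6, 3, 2], [], 0),
  ([34, 19, 6, 3, 2], [], 0),
  ([39, 18, 7, 3, 2], [], 0),
  ([40, 19, 7, 3, 2], [], 0),
  ([34, 18, 9, 3, 2], [], 0),
  ([31, 19, 9, 3, 2], [], 0),
  ([41, 27, 9, 3, 2], [], 0),
  ([42, 37, 9, 3, 2], [], 0),
  ([35, 13, 12, 3, 2], [], 0),
  ([30, 14, 12, 3, 2], [], 0),
  ([26, 17, 12, 3, 2], [], 0),
  ([43, 31, 13, 3, 2], [], 0),
  ([40, 18, 14, 3, 2], [], 0),
  ([39, 19, 14, 3, 2], [], 0),
  ([44, 24, 14, 3, 2], [], 0),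
  ([39, 38, 17, 3, 2], [], 0),
  ([26, 24, 8, 4, 2], [], 0),
  ([38, 30, 8, 4, 2], [], 0),
  ([40, 18, 14, 4, 2], [], 0),
  ([39, 19, 14, 4, 2], [], 0),
  ([25, 18, 8, 6, 2], [], 0),
  ([32, 19, 8, 6, 2], [], 0),
  ([42, 26, 8, 6, 2], [], 0),
  ([41, 38, 8, 6, 2], [], 0),
  ([35, 31, 9, 6, 2], [], 0),
  ([36, 34, 9, 6, 2], [], 0),
  ([20, 18, 8, 7, 2], [], 0),
  ([33, 19, 8, 7, 2], [], 0),
  ([43, 35, 8, 7, 2], [], 0),
  ([44, 36, 8, 7, 2], [], 0),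
  ([39, 26, 14, 7, 2], [], 0),
  ([40, 38, 14, 7, 2], [], 0),
  ([26, 24, 13, 8, 2], [], 0),
  ([38, 30, 13, 8, 2], [], 0),
  ([27, 17, 16, 8, 2], [], 0),
  ([37, 36, 17, 8, 2], [], 0),
  ([27, 17, 12, 9, 2], [], 0),
  ([42, 37, 17, 9, 2], [], 0),
  ([35, 24, 13, 12, 2], [], 0),
  ([30, 29, 14, 12, 2], [], 0),
  ([37, 20, 5, 4, 3], [], 0),
  ([42, 27, 5, 4, 3], [], 0),
  ([33, 18, 14, 4, 3], [], 0),
  ([20, 19, 14, 4, 3], [], 0),
  ([37, 15, 11, 5, 3], [], 0),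
  ([27, 23, 11, 5, 3], [], 0),
  ([25, 13, 12, 5, 3], [], 0),
  ([43, 24, 13, 5, 3], [], 0)]

/-- The words of the classes. -/
def rootData : List (List ℕ) := [[1], [3, 1], [29, 1]]

/-- For each class and kernel position: nothing, or the representative and a conjugator. -/
def certData : List (List (ℕ × ℕ × Bool × List ℕ)) := [[(8, 2, false, [33, 446, 31, 2684, 886, 451, 31, 82, 1, 1224, 2327]), (9, 2, false, [32, 9, 33, 446, 31, 2684, 33, 432, 886, 451, 31, 82, 1, 1224, 2327]), (12, 2, false, [33, 446, 31, 2684, 9, 2857, 886, 451, 31, 82, 1, 1224, 2327]), (13, 2, false, [33, 446, 31, 109, 31, 2684, 33, 432, 886, 451, 31, 82, 1, 1224, 2327]), (72, 2, false, [33, 446, 31, 109, 31, 2684, 886, 451, 31, 82, 1, 1224, 2327]), (73, 2, false, [33, 446, 31, 2684, 33, 432, 9, 2857, 886, 451, 31, 82, 1, 1224, 2327]), (76, 2, false, [32, 9, 33, 446, 31, 2684, 886, 451,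 31, 82, 1, 1224, 2327]), (77, 2, false, [33, 446, 31, 2684, 33, 432, 886, 451, 31, 82, 1, 1224, 2327]), (128, 1, true, [9, 0, 11, 349, 52, 445, 48, 20, 6, 1, 33, 446, 31, 2684, 367, 141, 55, 11, 31, 435, 1, 2693, 2910]), (129, 1, false, [33, 446, 31, 2684, 33, 432, 367, 141, 55, 11, 31, 435, 1, 2693, 2910]), (132, 1, false, [33, 446, 31, 2684, 33, 432, 9, 2857, 367, 141, 55, 11, 31, 435, 1, 2693, 2910]), (133, 1, false, [33, 446, 31, 109, 31, 2684, 367, 141, 55, 11, 31, 435, 1, 2693, 2910]), (192, 1, false, [33, 446, 31, 2684, 9, 2857, 367, 141, 55, 11, 31, 435, 1, 2693, 2910]), (193, 1, false, [33, 446, 31, 109, 31, 2684, 33, 432, 367, 141, 55, 11, 31, 435, 1, 2693, 2910]), (196, 1, true, [9, 0, 11, 349, 52, 445, 48, 20, 6, 1, 33, 446, 31, 2684, 33, 432, 367, 141, 55, 11, 31, 435, 1, 2693, 2910]), (197, 1, false, [33, 446, 31, 2684, 367, 141, 55, 11, 31, 435,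 1, 2693, 2910]), (272, 2, false, [31, 109, 886, 451, 31, 82, 1, 1224, 2327]), (273, 2, false, [33, 432, 9, 2857, 886, 451, 31, 82, 1, 1224, 2327]), (276, 2, false, [33, 432, 886, 451, 31, 82, 1, 1224, 2327]), (277, 2, false, [339, 9, 886, 451, 31, 82, 1, 1224, 2327]), (336, 2, false, [339, 9, 33, 432, 886, 451, 31, 82, 1, 1224, 2327]), (337, 2, false, [886, 451, 31, 82, 1, 1224, 2327]), (340, 2, false, [9, 2857, 886, 451, 31, 82, 1, 1224, 2327]), (341, 2, false, [31, 109, 33, 432, 886, 451, 31, 82, 1, 1224, 2327]), (408, 1, false, [9, 2857, 367, 141, 55, 11, 31, 435, 1, 2693, 2910]), (409, 1, false, [31, 109, 33, 432, 367, 141, 55, 11, 31, 435, 1, 2693, 2910]), (412, 1, false, [367, 141, 55, 11, 31, 435, 1, 2693, 2910]), (413, 1, true, [9, 0, 11, 349, 52, 445, 48, 20, 6, 1, 33, 432, 367, 141, 55, 11, 31, 435, 1, 2693, 2910]), (472, 1, false, [33, 432, 367, 141,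 55, 11, 31, 435, 1, 2693, 2910]), (473, 1, true, [9, 0, 11, 349, 52, 445, 48, 20, 6, 1, 367, 141, 55, 11, 31, 435, 1, 2693, 2910]), (476, 1, false, [33, 432, 9, 2857, 367, 141, 55, 11, 31, 435, 1, 2693, 2910]), (477, 1, false, [31, 109, 367, 141, 55, 11, 31, 435, 1, 2693, 2910]), (1032, 1, true, [9, 0, 11, 349, 52, 445, 48, 20, 6, 1, 33, 446, 367, 141, 55, 11, 31, 435, 1, 2693, 2910]), (1033, 1, false, [33, 446, 33, 432, 367, 141, 55, 11, 31, 435, 1, 2693, 2910]), (1036, 1, false, [33, 446, 31, 109, 367, 141, 55, 11, 31, 435, 1, 2693, 2910]), (1037, 1, false, [33, 446, 33, 432, 9, 2857, 367, 141, 55, 11, 31, 435, 1, 2693, 2910]), (1096, 1, false, [33, 446, 9, 2857, 367, 141, 55, 11, 31, 435, 1, 2693, 2910]), (1097, 1, false, [33, 446, 31, 109, 33, 432, 367, 141, 55, 11, 31, 435, 1, 2693, 2910]), (1100, 1, false, [33, 446, 367, 141, 55, 11, 31, 435, 1, 2693, 2910]),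 (1101, 1, true, [9, 0, 11, 349, 52, 445, 48, 20, 6, 1, 33, 446, 33, 432, 367, 141, 55, 11, 31, 435, 1, 2693, 2910]), (1152, 2, false, [33, 446, 886, 451, 31, 82, 1, 1224, 2327]), (1153, 2, false, [33, 446, 339, 9, 33, 432, 886, 451, 31, 82, 1, 1224, 2327]), (1156, 2, false, [33, 446, 31, 109, 33, 432, 886, 451, 31, 82, 1, 1224, 2327]), (1157, 2, false, [33, 446, 9, 2857, 886, 451, 31, 82, 1, 1224, 2327]), (1216, 2, false, [33, 446, 31, 109, 886, 451, 31, 82, 1, 1224, 2327]), (1217, 2, false, [33, 446, 33, 432, 9, 2857, 886, 451, 31, 82, 1, 1224, 2327]), (1220, 2, false, [33, 446, 33, 432, 886, 451, 31, 82, 1, 1224, 2327]), (1221, 2, false, [33, 446, 339, 9, 886, 451, 31, 82, 1, 1224, 2327]), (1296, 1, false, [31, 2684, 9, 2857, 367, 141, 55, 11, 31, 435, 1, 2693, 2910]), (1297, 1, false, [31, 109, 31, 2684, 33, 432, 367, 141, 55, 11, 31, 435, 1, 2693, 2910]),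 (1300, 1, true, [9, 0, 11, 349, 52, 445, 48, 20, 6, 1, 31, 2684, 33, 432, 367, 141, 55, 11, 31, 435, 1, 2693, 2910]), (1301, 1, false, [31, 2684, 367, 141, 55, 11, 31, 435, 1, 2693, 2910]), (1360, 1, false, [31, 2684, 33, 432, 367, 141, 55, 11, 31, 435, 1, 2693, 2910]), (1361, 1, true, [9, 0, 11, 349, 52, 445, 48, 20, 6, 1, 31, 2684, 367, 141, 55, 11, 31, 435, 1, 2693, 2910]), (1364, 1, false, [31, 109, 31, 2684, 367, 141, 55, 11, 31, 435, 1, 2693, 2910]), (1365, 1, false, [31, 2684, 33, 432, 9, 2857, 367, 141, 55, 11, 31, 435, 1, 2693, 2910]), (1432, 2, false, [31, 109, 31, 2684, 886, 451, 31, 82, 1, 1224, 2327]), (1433, 2, false, [31, 2684, 33, 432, 9, 2857, 886, 451, 31, 82, 1, 1224, 2327]), (1436, 2, false, [31, 2684, 339, 9, 886, 451, 31, 82, 1, 1224, 2327]), (1437, 2, false, [31, 2684, 33, 432, 886, 451, 31, 82, 1, 1224, 2327]), (1496, 2, false, [31, 2684,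 339, 9, 33, 432, 886, 451, 31, 82, 1, 1224, 2327]), (1497, 2, false, [31, 2684, 886, 451, 31, 82, 1, 1224, 2327]), (1500, 2, false, [31, 109, 31, 2684, 33, 432, 886, 451, 31, 82, 1, 1224, 2327]), (1501, 2, false, [31, 2684, 9, 2857, 886, 451, 31, 82, 1, 1224, 2327])],
  [(0, 0, false, [33, 446, 9, 2857, 855, 223, 50, 31, 54, 1623, 3318]), (1, 2, true, [9, 0, 11, 349, 52, 445, 48, 20, 6, 1, 31, 2684, 11, 1, 185, 2, 23]), (4, 2, false, [31, 109, 31, 2684, 11, 1, 185, 2, 23]), (5, 0, false, [33, 446, 855, 223, 50, 31, 54, 1623, 3318]), (64, 0, false, [184, 9, 9, 2857, 855, 223, 50, 31, 54, 1623, 3318]), (65, 2, false, [31, 2684, 9, 2857, 11, 1, 185, 2, 23]), (68, 2, false, [31, 2684, 11, 1, 185, 2, 23]), (69, 0, false, [184, 9, 855, 223, 50, 31, 54, 1623, 3318]), (136, 1, true, [339, 51, 9, 9, 0, 11, 349, 52, 445, 48, 20, 6, 1, 367, 141, 55, 56, 3371]), (137, 1,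 false, [33, 446, 31, 109, 367, 141, 55, 56, 3371]), (140, 1, true, [9, 0, 11, 349, 52, 445, 48, 20, 6, 1, 33, 446, 367, 141, 55, 56, 3371]), (141, 1, false, [339, 51, 9, 31, 109, 367, 141, 55, 56, 3371]), (200, 1, true, [135, 52, 32, 9, 0, 11, 349, 52, 445, 48, 20, 6, 1, 367, 141, 55, 56, 3371]), (201, 1, false, [33, 446, 367, 141, 55, 56, 3371]), (204, 1, true, [51, 11, 9, 9, 0, 11, 349, 52, 445, 48, 20, 6, 1, 367, 141, 55, 56, 3371]), (205, 1, false, [33, 446, 9, 2857, 367, 141, 55, 56, 3371]), (272, 1, false, [31, 109, 31, 2684, 367, 141, 55, 56, 3371]), (273, 1, true, [9, 0, 11, 349, 52, 445, 48, 20, 6, 1, 31, 2684, 9, 2857, 367, 141, 55, 56, 3371]), (276, 1, true, [9, 0, 11, 349, 52, 445, 48, 20, 6, 1, 31, 2684, 367, 141, 55, 56, 3371]), (277, 1, false, [62, 11, 31, 2684, 367, 141, 55, 56, 3371]), (336, 1, true, [339, 51, 9, 9, 0, 11, 349, 52, 445, 48, 20,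 6, 1, 31, 2684, 367, 141, 55, 56, 3371]), (337, 1, false, [31, 2684, 367, 141, 55, 56, 3371]), (340, 1, false, [31, 2684, 9, 2857, 367, 141, 55, 56, 3371]), (341, 1, true, [9, 0, 11, 349, 52, 445, 48, 20, 6, 1, 31, 109, 31, 2684, 367, 141, 55, 56, 3371]), (408, 2, false, [339, 51, 11, 1, 185, 2, 23]), (409, 0, false, [31, 2684, 9, 2857, 855, 223, 50, 31, 54, 1623, 3318]), (412, 2, false, [339, 51, 9, 11, 1, 185, 2, 23]), (413, 0, false, [31, 2684, 855, 223, 50, 31, 54, 1623, 3318]), (472, 0, true, [9, 0, 11, 349, 52, 445, 48, 20, 6, 1, 31, 2684, 855, 223, 50, 31, 54, 1623, 3318]), (473, 2, false, [33, 446, 9, 2857, 11, 1, 185, 2, 23]), (476, 0, false, [31, 109, 31, 2684, 855, 223, 50, 31, 54, 1623, 3318]), (477, 2, false, [33, 446, 11, 1, 185, 2, 23]), (1024, 1, true, [9, 0, 11, 349, 52, 445, 48, 20, 6, 1, 62, 33, 11, 31, 2684, 367, 141, 55, 56, 3371]), (1025,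 1, false, [339, 51, 9, 31, 2684, 9, 2857, 367, 141, 55, 56, 3371]), (1028, 1, false, [339, 51, 9, 31, 2684, 367, 141, 55, 56, 3371]), (1029, 1, true, [9, 0, 11, 349, 52, 445, 48, 20, 6, 1, 33, 446, 31, 2684, 367, 141, 55, 56, 3371]), (1088, 1, true, [9, 0, 11, 349, 52, 445, 48, 20, 6, 1, 339, 51, 9, 31, 2684, 367, 141, 55, 56, 3371]), (1089, 1, false, [33, 446, 31, 2684, 367, 141, 55, 56, 3371]), (1092, 1, false, [62, 33, 11, 31, 2684, 367, 141, 55, 56, 3371]), (1093, 1, true, [335, 9, 9, 0, 11, 349, 52, 445, 48, 20, 6, 1, 31, 2684, 367, 141, 55, 56, 3371]), (1160, 0, false, [339, 51, 9, 31, 2684, 855, 223, 50, 31, 54, 1623, 3318]), (1161, 2, true, [9, 0, 11, 349, 52, 445, 48, 20, 6, 1, 11, 1, 185, 2, 23]), (1164, 0, false, [33, 446, 31, 2684, 855, 223, 50, 31, 54, 1623, 3318]), (1165, 2, false, [31, 109, 11, 1, 185, 2, 23]), (1224, 0, false, [62, 33, 11, 31,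 2684, 855, 223, 50, 31, 54, 1623, 3318]), (1225, 2, false, [9, 2857, 11, 1, 185, 2, 23]), (1228, 0, false, [51, 32, 9, 31, 2684, 855, 223, 50, 31, 54, 1623, 3318]), (1229, 2, false, [11, 1, 185, 2, 23]), (1296, 2, false, [31, 2684, 339, 51, 11, 1, 185, 2, 23]), (1297, 0, false, [9, 2857, 855, 223, 50, 31, 54, 1623, 3318]), (1300, 0, false, [855, 223, 50, 31, 54, 1623, 3318]), (1301, 2, false, [184, 9, 31, 2684, 11, 1, 185, 2, 23]), (1360, 0, true, [9, 0, 11, 349, 52, 445, 48, 20, 6, 1, 855, 223, 50, 31, 54, 1623, 3318]), (1361, 2, false, [290, 33, 31, 2684, 11, 1, 185, 2, 23]), (1364, 2, false, [33, 446, 31, 2684, 11, 1, 185, 2, 23]), (1365, 0, false, [31, 109, 855, 223, 50, 31, 54, 1623, 3318]), (1432, 1, false, [31, 109, 367, 141, 55, 56, 3371]), (1433, 1, true, [9, 0, 11, 349, 52, 445, 48, 20, 6, 1, 9, 2857, 367, 141, 55, 56, 3371]), (1436, 1, false, [31,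 109, 9, 2857, 367, 141, 55, 56, 3371]), (1437, 1, true, [9, 0, 11, 349, 52, 445, 48, 20, 6, 1, 367, 141, 55, 56, 3371]), (1496, 1, true, [9, 0, 11, 349, 52, 445, 48, 20, 6, 1, 31, 109, 9, 2857, 367, 141, 55, 56, 3371]), (1497, 1, false, [367, 141, 55, 56, 3371]), (1500, 1, true, [9, 0, 11, 349, 52, 445, 48, 20, 6, 1, 31, 109, 367, 141, 55, 56, 3371]), (1501, 1, false, [9, 2857, 367, 141, 55, 56, 3371])],
  [(128, 2, false, [9, 2857, 11, 1238, 3078, 12, 20]), (129, 2, true, [9, 0, 11, 349, 52, 445, 48, 20, 6, 1, 9, 2857, 11, 1238, 3078, 12, 20]), (132, 2, false, [9, 2857, 11, 1238, 31, 109, 3078, 12, 20]), (133, 2, false, [9, 2857, 11, 1238, 9, 2857, 3078, 12, 20]), (152, 2, false, [9, 2857, 11, 1238, 31, 109, 31, 2684, 3078, 12, 20]), (153, 2, false, [183, 33, 31, 2684, 3078, 12, 20]), (156, 2, false, [183, 33, 31, 109, 31, 2684, 3078, 12, 20]), (157, 2, false,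 [9, 2857, 11, 1238, 31, 2684, 3078, 12, 20]), (192, 2, false, [3078, 12, 20]), (193, 2, true, [9, 0, 11, 349, 52, 445, 48, 20, 6, 1, 3078, 12, 20]), (196, 2, false, [31, 109, 3078, 12, 20]), (197, 2, false, [9, 2857, 3078, 12, 20]), (216, 2, false, [31, 109, 31, 2684, 3078, 12, 20]), (217, 2, false, [31, 2684, 9, 2857, 3078, 12, 20]), (220, 2, true, [9, 0, 11, 349, 52, 445, 48, 20, 6, 1, 31, 2684, 3078, 12, 20]), (221, 2, false, [31, 2684, 3078, 12, 20]), (384, 2, false, [339, 33, 9, 9, 2857, 3078, 12, 20]), (385, 2, false, [339, 33, 9, 31, 109, 3078, 12, 20]), (388, 2, true, [339, 52, 9, 9, 0, 11, 349, 52, 445, 48, 20, 6, 1, 3078, 12, 20]), (389, 2, false, [339, 33, 9, 3078, 12, 20]), (408, 2, true, [23, 2644, 339, 52, 9, 9, 0, 11, 349, 52, 445, 48, 20, 6, 1, 3078, 12, 20]), (409, 2, false, [31, 2684, 339, 33, 9, 3078, 12, 20]), (412, 2, false, [31, 2684, 339,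 33, 9, 31, 109, 3078, 12, 20]), (413, 2, false, [31, 2684, 339, 33, 9, 9, 2857, 3078, 12, 20]), (448, 2, true, [9, 0, 11, 349, 52, 445, 48, 20, 6, 1, 33, 446, 3078, 12, 20]), (449, 2, false, [33, 446, 3078, 12, 20]), (452, 2, false, [33, 446, 9, 2857, 3078, 12, 20]), (453, 2, false, [33, 446, 31, 109, 3078, 12, 20]), (472, 2, false, [339, 33, 9, 31, 2684, 3078, 12, 20]), (473, 2, false, [33, 446, 31, 109, 31, 2684, 3078, 12, 20]), (476, 2, false, [33, 446, 31, 2684, 3078, 12, 20]), (477, 2, false, [339, 33, 9, 31, 109, 31, 2684, 3078, 12, 20]), (1152, 1, false, [31, 2684, 9, 2857, 471, 180, 50, 136, 3318, 67, 1216]), (1153, 1, false, [31, 109, 31, 2684, 471, 180, 50, 136, 3318, 67, 1216]), (1156, 1, false, [31, 109, 31, 2684, 9, 2857, 471, 180, 50, 136, 3318, 67, 1216]), (1157, 1, false, [31, 2684, 471, 180, 50, 136, 3318, 67, 1216]), (1176, 1, false, [31, 109,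 9, 2857, 471, 180, 50, 136, 3318, 67, 1216]), (1177, 1, false, [471, 180, 50, 136, 3318, 67, 1216]), (1180, 1, false, [31, 109, 471, 180, 50, 136, 3318, 67, 1216]), (1181, 1, false, [9, 2857, 471, 180, 50, 136, 3318, 67, 1216]), (1216, 1, false, [31, 2684, 339, 471, 180, 50, 136, 3318, 67, 1216]), (1217, 1, false, [9, 2857, 11, 1238, 31, 109, 31, 2684, 471, 180, 50, 136, 3318, 67, 1216]), (1220, 1, false, [31, 2684, 339, 31, 109, 471, 180, 50, 136, 3318, 67, 1216]), (1221, 1, false, [9, 2857, 11, 1238, 31, 2684, 471, 180, 50, 136, 3318, 67, 1216]), (1240, 1, false, [339, 31, 109, 471, 180, 50, 136, 3318, 67, 1216]), (1241, 1, false, [9, 2857, 11, 1238, 471, 180, 50, 136, 3318, 67, 1216]), (1244, 1, false, [9, 2857, 11, 1238, 31, 109, 471, 180, 50, 136, 3318, 67, 1216]), (1245, 1, false, [339, 471, 180, 50, 136, 3318, 67, 1216]), (1408, 1, false, [290, 9, 31,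 2684, 471, 180, 50, 136, 3318, 67, 1216]), (1409, 1, false, [33, 446, 31, 109, 31, 2684, 471, 180, 50, 136, 3318, 67, 1216]), (1412, 1, false, [290, 9, 31, 109, 31, 2684, 471, 180, 50, 136, 3318, 67, 1216]), (1413, 1, false, [33, 446, 31, 2684, 471, 180, 50, 136, 3318, 67, 1216]), (1432, 1, false, [33, 446, 31, 109, 9, 2857, 471, 180, 50, 136, 3318, 67, 1216]), (1433, 1, false, [33, 446, 471, 180, 50, 136, 3318, 67, 1216]), (1436, 1, false, [33, 446, 31, 109, 471, 180, 50, 136, 3318, 67, 1216]), (1437, 1, false, [33, 446, 9, 2857, 471, 180, 50, 136, 3318, 67, 1216]), (1472, 1, false, [184, 33, 11, 31, 109, 31, 2684, 471, 180, 50, 136, 3318, 67, 1216]), (1473, 1, false, [31, 2684, 183, 33, 471, 180, 50, 136, 3318, 67, 1216]), (1476, 1, false, [184, 33, 11, 31, 2684, 471, 180, 50, 136, 3318, 67, 1216]), (1477, 1, false, [31, 2684, 183, 33, 31, 109, 471, 180, 50,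 136, 3318, 67, 1216]), (1496, 1, false, [183, 33, 9, 2857, 471, 180, 50, 136, 3318, 67, 1216]), (1497, 1, false, [183, 33, 31, 109, 471, 180, 50, 136, 3318, 67, 1216]), (1500, 1, false, [183, 33, 471, 180, 50, 136, 3318, 67, 1216]), (1501, 1, false, [183, 33, 31, 109, 9, 2857, 471, 180, 50, 136, 3318, 67, 1216])]]

end CfsgLib.Recog.SporBound.Fi22Outer
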