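import Cfsg.Agent.Lib.Recog.SporBound.Fi22Outer.Zero
import Cfsg.Agent.Lib.Recog.FiM22Two.OrthSixMinus
import Mathlib.Algebra.Group.Subgroup.Finite

set_option autoImplicit false
set_option maxRecDepth 20000

/-!
The fixed group of the third representative: an elementary abelian normal 2-subgroup of order 64 with quotient
the orthogonal group of minus type in dimension six (owner: helper24).
-/

namespace CfsgLib.Recog.SporBound.Fi22Outer

open CfsgLib.Recog.SporBound.Fi22Pair
open CfsgLib.Recog.FiM22Two.OrthSixMinus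
open scoped Matrix

/-- The orthogonal group. -/
abbrev O6 : Type := ↥(Cfsg.isometryGroup (ZMod 2) q6)

/-- Vectors by code. -/
def vecD (m : ℕ) : Ix → ZMod 2 :=
  Sum.elim (Sum.elim (fun k => cond (Nat.testBit m k.val) 1 0) (fun k => cond (Nat.testBit m (k.val + 2)) 1 0))
    (fun k => cond (Nat.testBit m (k.val + 4)) 1 0)

/-- Every reflection is reached from the six by conjugation. -/
def stepsSix : List (ℕ × ℕ × ℕ) := [(1, 7, 38), (2, 7, 19), (3, 7, 35), (5, 7, 47), (3, 33, 5), (4, 33, 49), (3, 20, 48), (5, 20, 60), (4, 36, 52), (5, 16, 56), (2, 38, 50), (4, 38, 54), (5, 38, 14), (4, 35, 51), (5, 35, 11), (4, 47, 63), (2, 5, 17), (5, 49, 25), (4, 48, 32), (5, 48, 24), (4, 60, 44), (5, 52, 28), (3, 50, 22), (4, 50, 34), (3, 54, 18), (2, 11, 31), (5, 17, 57), (2, 25, 13), (5, 34, 10), (4, 57, 41)]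

theorem base_q : ∀ i : Fin 6, q6 (vecD (baseSix.getD i.val 0)) = 1 := by decide +kernel

theorem code_facts : (∀ k : Fin 36, q6 (vecD (nonsingSix.getD k.val 0)) = 1) ∧
    (∀ k l : Fin 36, vecD (nonsingSix.getD k.val 0) = vecD (nonsingSix.getD l.val 0) → k = l) ∧
    (∀ v : Ix → ZMod 2, q6 v = 1 → ∃ k : Fin 36, vecD (nonsingSix.getD k.val 0) = v) := by
  refine ⟨?_, ?_, ?_⟩ <;> decide +kernel

theorem code_reached : ∀ k : Fin 36, nonsingSix.getD k.val 0 ∈ baseSix ∨
    nonsingSix.getD k.val 0 ∈ stepsSix.map fun e => e.2.2 := by decide +kernel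

theorem step_mat : stepsSix.all (fun e => Nat.blt e.1 6 &&
    decide (tmat (vecD (baseSix.getD e.1 0)) * tmat (vecD e.2.1) * tmat (vecD (baseSix.getD e.1 0)) =
      tmat (vecD e.2.2))) = true := by decide +kernel

theorem step_order : (List.range stepsSix.length).all (fun j =>
    baseSix.contains (stepsSix.getD j (0, 0, 0)).2.1 ||
      ((stepsSix.take j).map fun e => e.2.2).contains (stepsSix.getD j (0, 0, 0)).2.1) = true := by decide +kernel

theorem reflection_tmat : ∀ k : Fin 36,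
    1 - Matrix.vecMulVec (vecD (nonsingSix.getD k.val 0)) (Cfsg.polarVec q6 (vecD (nonsingSix.getD k.val 0))) =
      tmat (vecD (nonsingSix.getD k.val 0)) := by decide +kernel

/-- The six generating reflections. -/
noncomputable def r6 (i : Fin 6) : O6 :=
  ⟨⟨tmat (vecD (baseSix.getD i.val 0)), tmat (vecD (baseSix.getD i.val 0)), (tmat_ok _ (base_q i)).1,
    (tmat_ok _ (base_q i)).1⟩, fun x _ => by
      show q6 (tmat (vecD (baseSix.getD i.val 0)) *ᵥ x) = q6 x
      rw [(tmat_ok _ (base_q i)).2, tmat_form _ (base_q i)]⟩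

/-- The matrix. -/
noncomputable def matSix : O6 →* Matrix Ix Ix (ZMod 2) where
  toFun g := ((g : GL Ix (ZMod 2)) : Matrix Ix Ix (ZMod 2))
  map_one' := rfl
  map_mul' _ _ := rfl

theorem closure_r6 : Subgroup.closure (Set.range r6) = ⊤ := by
  have hgen := CfsgLib.Classical.Quad.closure_reflectionMatrix_eq_top
    (CfsgLib.Classical.Quad.qMinus 2 (ZMod 2) 1 1) (CfsgLib.Classical.Quad.qMinus_nondeg anis 2) (Or.inr (by simp))
  have key : ∀ Qf : (Ix → ZMod 2) → ZMod 2, ⇑(CfsgLib.Classical.Quad.qMinus 2 (ZMod 2) 1 1) = Qf →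
      Subgroup.closure {g : ↥(Cfsg.isometryGroup (ZMod 2) Qf) | ∃ v : Ix → ZMod 2, Qf v ≠ 0 ∧
        ((g : Matrix.GeneralLinearGroup Ix (ZMod 2)) : Matrix Ix Ix (ZMod 2)) = Cfsg.reflectionMatrix Qf v} = ⊤ := by
    intro Qf e
    subst e
    exact hgen
  replace hgen := key q6 (CfsgLib.Classical.Quad.coe_qMinus 2 (ZMod 2) 1 1)
  rw [eq_top_iff, ← hgen, Subgroup.closure_le]
  have hbase : ∀ m ∈ baseSix, ∃ g ∈ Subgroup.closure (Set.range r6), matSix g = tmat (vecD m) := fun m hm => by
    obtain ⟨i, hi, rfl⟩ := List.getElem_of_mem hm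
    have h6 : i < 6 := len_ok.2.2.2.2.2.2.2.2.1 ▸ hi
    refine ⟨r6 ⟨i, h6⟩, Subgroup.subset_closure ⟨_, rfl⟩, ?_⟩
    show tmat (vecD (baseSix.getD i 0)) = _
    rw [List.getD_eq_getElem _ _ hi]
  have hstep : ∀ j, j ≤ stepsSix.length → ∀ x ∈ (stepsSix.take j).map fun e => e.2.2,
      ∃ g ∈ Subgroup.closure (Set.range r6), matSix g = tmat (vecD x) := by
    intro j
    induction j with
    | zero => intro _ x hx; simp at hx
    | succ j ih =>
      intro hj x hx
      rw [List.take_succ_eq_append_getElem (show j < stepsSix.length by omega), List.map_append, List.mem_append]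
        at hx
      rcases hx with hx | hx
      · exact ih (by omega) x hx
      have hjl : j < stepsSix.length := by omega
      obtain rfl : x = (stepsSix[j]).2.2 := by simpa using hx
      have ho := List.all_eq_true.1 step_order j (List.mem_range.2 hjl)
      rw [List.getD_eq_getElem _ _ hjl, Bool.or_eq_true, List.contains_iff_mem, List.contains_iff_mem] at ho
      obtain ⟨g, hg, hge⟩ : ∃ g ∈ Subgroup.closure (Set.range r6), matSix g = tmat (vecD (stepsSix[j]).2.1) := by
        rcases ho with ho | ho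
        exacts [hbase _ ho, ih (by omega) _ ho]
      have hm := List.all_eq_true.1 step_mat _ (List.getElem_mem hjl)
      rw [Bool.and_eq_true, Nat.blt_eq, decide_eq_true_iff] at hm
      refine ⟨r6 ⟨_, hm.1⟩ * g * r6 ⟨_, hm.1⟩, mul_mem (mul_mem (Subgroup.subset_closure ⟨_, rfl⟩) hg)
        (Subgroup.subset_closure ⟨_, rfl⟩), ?_⟩
      rw [map_mul, map_mul, hge]
      exact hm.2
  rintro g ⟨v, hv, hg⟩
  have h1 : q6 v = 1 := (by decide : ∀ c : ZMod 2, c ≠ 0 → c = 1) _ hv
  obtain ⟨k, rfl⟩ := code_facts.2.2 v h1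
  obtain ⟨g', hg', e⟩ : ∃ g' ∈ Subgroup.closure (Set.range r6),
      matSix g' = tmat (vecD (nonsingSix.getD k.val 0)) := by
    rcases code_reached k with h | h
    · exact hbase _ h
    · exact hstep stepsSix.length le_rfl _ (by rwa [List.take_length])
  have : g = g' := Subtype.ext (Units.ext (hg.trans ((by
    rw [Cfsg.reflectionMatrix, h1, inv_one, one_smul]; exact reflection_tmat k :
      Cfsg.reflectionMatrix q6 (vecD (nonsingSix.getD k.val 0)) = tmat (vecD (nonsingSix.getD k.val 0))).trans e.symm)))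
  exact this ▸ hg'

/-- The nonsingular vectors in their order. -/
noncomputable def e36 : Fin 36 ≃ {v : Ix → ZMod 2 // q6 v = 1} :=
  Equiv.ofBijective (fun k => ⟨vecD (nonsingSix.getD k.val 0), code_facts.1 k⟩)
    ⟨fun k l e => code_facts.2.1 k l (congrArg Subtype.val e), fun ⟨v, hv⟩ =>
      (code_facts.2.2 v hv).imp fun _ h => Subtype.ext h⟩

theorem matSix_keeps (g : O6) (v : Ix → ZMod 2) (hv : q6 v = 1) : q6 (matSix g *ᵥ v) = 1 :=
  (g.2 v v : q6 (matSix g *ᵥ v) = q6 v).trans hv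

/-- The action of the orthogonal group on the nonsingular vectors. -/
noncomputable def iota36 : O6 →* Equiv.Perm (Fin 36) :=
  permHom matSix (P := fun v => q6 v = 1) matSix_keeps e36

theorem iota36_inj : Function.Injective iota36 :=
  permHom_injective _ _ _ (fun _ _ e => Subtype.ext (Units.ext e)) fun c => by
    rcases spanned (Pi.single c 1) with h | h | h
    · exact absurd (congrFun h c) (by simp)
    · exact Or.inl h
    · exact Or.inr h

/-- The generating rows with the permutations of their reflections. -/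
noncomputable def labelSixOK : Bool :=
  (List.range 6).all fun i => (List.range 72).all fun n =>
    let j := rows72.idxOf (ev (false, [genSix.getD i 0]) (rows72.getD n 0))
    Nat.blt j 72 && Nat.beq (nonsingSix.getD (j / 2) 0) (refD (baseSix.getD i 0) (nonsingSix.getD (n / 2) 0))

theorem label_six : labelSixOK = true := by decide +kernel

theorem refD_vec : ∀ i : Fin 6, ∀ k : Fin 36, vecD (refD (baseSix.getD i.val 0) (nonsingSix.getD k.val 0)) =
    tmat (vecD (baseSix.getD i.val 0)) *ᵥ vecD (nonsingSix.getD k.val 0) := by decide +kernel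

theorem rows72_lt : ∀ i < 72, rows72.getD i 0 < 3510 := fun i hi => by
  rw [List.getD_eq_getElem _ _ (len_ok.2.2.1 ▸ hi)]
  simpa using List.all_eq_true.1 rows_lt _ (List.mem_append_right _ (List.getElem_mem _))

/-- The 36 pairs. -/
def P72 : Rows 72 36 :=
  ⟨rows72, 2, len_ok.2.2.1, rows72_lt, nodup_of_distinct _ rows_distinct.2.2, by norm_num, by norm_num⟩

/-- The data of a product of kernel generators. -/
def kerSeq (m : ℕ) : List (Bool × List ℕ) :=
  ((List.range 6).filter fun k => Nat.testBit m k).map fun k => (false, kerSix.getD k [])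

theorem kerSix_mem {k : ℕ} (hk : k < 6) : kerSix.getD k [] ∈ kerSix := by
  rw [List.getD_eq_getElem _ _ (len_ok.2.2.2.2.2.2.1.symm ▸ hk)]; exact List.getElem_mem _

theorem genSix_mem (i : Fin 6) : genSix.getD i.val 0 ∈ genSix := by
  rw [List.getD_eq_getElem _ _ (by rw [len_ok.2.2.2.2.2.1]; exact i.2)]; exact List.getElem_mem _

end CfsgLib.Recog.SporBound.Fi22Outer

namespace CfsgLib.Recog.SporBound.Fi22Pair.Frame

open Cfsg CfsgLib.Recog.SporBound.Fi22Outer
open CfsgLib.Recog.SporBound.Fi22Aut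
open CfsgLib.Recog.SporBound.Fi22U6 (F4)
open CfsgLib.Recog.FiM22Two.OrthSixMinus (card_iso nonempty_aut q6 tmat)

variable {A : Type*} [Group A] (F : Frame A)

/-- The six kernel generators. -/
noncomputable def eK (k : Fin 6) : A := F.el (false, kerSix.getD k.val [])

/-- The six reflecting generators. -/
noncomputable def fX (i : Fin 6) : A := F.el (false, [genSix.getD i.val 0])

/-- The elementary abelian group. -/
noncomputable def E6 : Subgroup A := Subgroup.closure (Set.range F.eK)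

variable [Finite A]

theorem genTwo_spec {e : Bool × List ℕ} (he : e ∈ genTwo) :
    Fits e ∧ F.el e ∈ F.Fx 2 ∧ F.el e ∈ F.Maps P72 := by
  have h := List.all_eq_true.1 maps2 e he
  rw [Bool.and_eq_true] at h
  obtain ⟨b, w⟩ := e
  obtain rfl : b = false := by
    simp only [genTwo, List.mem_append, List.mem_map, Prod.mk.injEq] at he
    rcases he with ⟨_, _, hb, _⟩ | ⟨_, _, hb, _⟩ <;> exact hb.symm
  obtain ⟨hf, hm⟩ := F.el_Fx (by norm_num) h.1
  exact ⟨hf, hm, (F.mem_maps_el P72 hf h.2).1⟩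

theorem eK_gen (k : Fin 6) : ((false, kerSix.getD k.val []) : Bool × List ℕ) ∈ genTwo :=
  List.mem_append_right _ (List.mem_map.2 ⟨_, kerSix_mem k.2, rfl⟩)

theorem fX_gen (i : Fin 6) : ((false, [genSix.getD i.val 0]) : Bool × List ℕ) ∈ genTwo :=
  List.mem_append_left _ (List.mem_map.2 ⟨_, genSix_mem i, rfl⟩)

theorem eK_maps (k : Fin 6) : F.MapsP P72 (F.eK k) (iota36 1) := by
  obtain ⟨hf, -, hm⟩ := F.genTwo_spec (eK_gen k)
  have h : F.proj P72 ⟨F.eK k, hm⟩ = iota36 1 := by
    rw [map_one]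
    refine Equiv.ext fun b => Fin.ext ?_
    exact (F.proj_val P72 hm (f := ev (false, kerSix.getD k.val [])) (F.el_spec hf) b).trans
      (Nat.eq_of_beq_eq_true (List.all_eq_true.1 (List.all_eq_true.1 fix_ker _ (kerSix_mem k.2)) b.val
        (List.mem_range.2 b.2)))
  exact h ▸ F.proj_spec P72 ⟨F.eK k, hm⟩

theorem fX_maps (i : Fin 6) : F.MapsP P72 (F.fX i) (iota36 (r6 i)) := by
  intro n
  have h := List.all_eq_true.1 (List.all_eq_true.1 label_six i.val (List.mem_range.2 i.2)) n.val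
    (List.mem_range.2 n.2)
  simp only [Bool.and_eq_true, Nat.blt_eq] at h
  refine ⟨⟨_, h.1⟩, Fin.ext ?_, e36.injective (Subtype.ext ?_)⟩
  · rw [fX, F.el_spec (F.genTwo_spec (fX_gen i)).1]
    exact (getD_idxOf (by rw [P72.len]; exact h.1)).symm
  · rw [iota36, permHom_apply]
    show vecD (nonsingSix.getD (_ / 2) 0) = _
    rw [Nat.eq_of_beq_eq_true h.2, refD_vec i ⟨n.val / 2, by omega⟩]
    rfl

/-- The generated part of the third fixed group. -/
noncomputable def Gab : Subgroup A := Subgroup.closure (Set.range F.eK ∪ Set.range F.fX)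

theorem Gab_le : F.Gab ≤ F.Fx 2 ⊓ F.Lifts P72 iota36 := (Subgroup.closure_le _).2 (by
  rintro _ (⟨k, rfl⟩ | ⟨i, rfl⟩)
  · exact ⟨(F.genTwo_spec (eK_gen k)).2.1, (F.mem_lifts P72 iota36).2
      ⟨⟨_, F.eK_maps k⟩, _, F.mapsP_unique P72 (F.eK_maps k) (F.proj_spec P72 ⟨F.eK k, _, F.eK_maps k⟩)⟩⟩
  · exact ⟨(F.genTwo_spec (fX_gen i)).2.1, (F.mem_lifts P72 iota36).2
      ⟨⟨_, F.fX_maps i⟩, _, F.mapsP_unique P72 (F.fX_maps i) (F.proj_spec P72 ⟨F.fX i, _, F.fX_maps i⟩)⟩⟩)

/-- The map to the orthogonal group. -/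
noncomputable def psi2 : F.Gab →* O6 :=
  (F.lift P72 iota36 iota36_inj).comp (Subgroup.inclusion (F.Gab_le.trans inf_le_right))

theorem psi2_of {α : A} (hm : α ∈ F.Gab) {g : O6} (hg : F.MapsP P72 α (iota36 g)) : F.psi2 ⟨α, hm⟩ = g :=
  iota36_inj (by
    rw [psi2, MonoidHom.comp_apply, F.lift_spec]
    exact F.mapsP_unique P72 (F.proj_spec P72 _) hg)

theorem psi2_surj : Function.Surjective F.psi2 := by
  rw [← MonoidHom.range_eq_top, eq_top_iff, ← closure_r6, Subgroup.closure_le]
  rintro _ ⟨i, rfl⟩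
  exact ⟨_, F.psi2_of (Subgroup.subset_closure (Or.inr ⟨i, rfl⟩)) (F.fX_maps i)⟩

omit [Finite A] in
theorem E6_le_Gab : F.E6 ≤ F.Gab := Subgroup.closure_mono Set.subset_union_left

theorem E6_le_ker : F.E6.subgroupOf F.Gab ≤ F.psi2.ker := by
  intro x hx
  suffices h : F.E6 ≤ F.psi2.ker.map F.Gab.subtype by
    obtain ⟨y, hy, e⟩ := h (Subgroup.mem_subgroupOf.1 hx)
    exact Subtype.ext e ▸ hy
  refine (Subgroup.closure_le _).2 ?_
  rintro _ ⟨k, rfl⟩
  exact ⟨⟨F.eK k, Subgroup.subset_closure (Or.inl ⟨k, rfl⟩)⟩,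
    MonoidHom.mem_ker.2 (F.psi2_of _ (F.eK_maps k)), rfl⟩

include F in
theorem kerSeq_fits (m : ℕ) : ∀ e ∈ kerSeq m, Fits e := fun e he => by
  obtain ⟨k, hk, rfl⟩ := List.mem_map.1 he
  exact (F.genTwo_spec (eK_gen ⟨k, List.mem_range.1 (List.mem_filter.1 hk).1⟩)).1

theorem kerSeq_mem (m : ℕ) : F.seq (kerSeq m) ∈ F.E6 :=
  list_prod_mem fun x hx => by
    obtain ⟨e, he, rfl⟩ := List.mem_map.1 hx
    obtain ⟨k, hk, rfl⟩ := List.mem_map.1 he
    exact Subgroup.subset_closure ⟨⟨k, List.mem_range.1 (List.mem_filter.1 hk).1⟩, rfl⟩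

theorem card_E6_ge : 64 ≤ Nat.card F.E6 := by
  have h := Nat.card_le_card_of_injective (fun m : Fin 64 => (⟨F.seq (kerSeq m.val), F.kerSeq_mem _⟩ : F.E6))
    (fun m l e => by
      have e' : F.seq (kerSeq m.val) = F.seq (kerSeq l.val) := congrArg Subtype.val e
      have hag := F.agree_of_eq (F.seq_spec (F.kerSeq_fits m.val)) (F.seq_spec (F.kerSeq_fits l.val)) e'
      have hs : ∀ (L : List ℕ), (∀ c ∈ L, evSeq (kerSeq m.val) c = evSeq (kerSeq l.val) c) → ∀ a,
          L.foldl (fun acc c => acc * 4096 + evSeq (kerSeq m.val) c) a =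
            L.foldl (fun acc c => acc * 4096 + evSeq (kerSeq l.val) c) a := by
        intro L
        induction L with
        | nil => intros; rfl
        | cons c L ih =>
          intro hL a
          rw [List.foldl_cons, List.foldl_cons, hL c List.mem_cons_self]
          exact ih (fun x hx => hL x (List.mem_cons_of_mem _ hx)) _
      have hsig : kerSig m.val = kerSig l.val := hs glData (fun c hc =>
        Nat.eq_of_beq_eq_true (List.all_eq_true.1 hag c hc)) 0
      have hnd := nodup_of_distinct _ ker_sep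
      refine Fin.ext ((hnd.getElem_inj_iff (hi := by simp) (hj := by simp)).1 ?_)
      simp only [List.getElem_map, List.getElem_range]
      exact hsig)
  rwa [Nat.card_fin] at h

theorem cards2 : F.Gab = F.Fx 2 ∧ Nat.card F.Gab = 3317760 ∧ Nat.card F.E6 = 64 ∧
    F.psi2.ker = F.E6.subgroupOf F.Gab := by
  have h1 := F.psi2.ker.card_mul_index
  rw [Subgroup.index_ker, MonoidHom.range_eq_top.2 F.psi2_surj, Subgroup.card_top, card_iso] at h1
  have h2 := Subgroup.card_le_of_le F.E6_le_ker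
  have hE : Nat.card (F.E6.subgroupOf F.Gab) = Nat.card F.E6 :=
    Nat.card_congr (Subgroup.subgroupOfEquivOfLe F.E6_le_Gab).toEquiv
  have h3 := F.card_E6_ge
  have hle : F.Gab ≤ F.Fx 2 := F.Gab_le.trans inf_le_left
  have h4 := Subgroup.card_le_of_le hle
  have h5 := F.card_Fx_le (by norm_num : 2 < 3) bound2
  rw [hE] at h2
  have hk : Nat.card F.psi2.ker = 64 := by omega
  refine ⟨Subgroup.eq_of_le_of_card_ge hle (by omega), by omega, by omega,
    (Subgroup.eq_of_le_of_card_ge F.E6_le_ker (by omega)).symm⟩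

theorem E6_elementary : Cfsg.IsElementaryAbelian 2 F.E6 := by
  have hrel : ∀ k : Fin 6, F.eK k * F.eK k = 1 ∧ ∀ l : Fin 6, F.eK k * F.eK l = F.eK l * F.eK k := by
    intro k
    have h := List.all_eq_true.1 ker_rel _ (kerSix_mem k.2)
    rw [Bool.and_eq_true] at h
    have fk := (F.genTwo_spec (eK_gen k)).1
    refine ⟨F.eq_of_agree (f := fun c => ev (false, kerSix.getD k.val []) (ev (false, kerSix.getD k.val []) c))
      (g := id) (F.mul_spec (F.el_spec fk) (F.el_spec fk)) F.one_spec h.1, fun l => ?_⟩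
    have fl := (F.genTwo_spec (eK_gen l)).1
    exact F.eq_of_agree (f := fun c => ev (false, kerSix.getD k.val []) (ev (false, kerSix.getD l.val []) c))
      (g := fun c => ev (false, kerSix.getD l.val []) (ev (false, kerSix.getD k.val []) c))
      (F.mul_spec (F.el_spec fk) (F.el_spec fl)) (F.mul_spec (F.el_spec fl) (F.el_spec fk))
      (List.all_eq_true.1 h.2 _ (kerSix_mem l.2))
  have hc : ∀ x ∈ F.E6, ∀ y ∈ F.E6, x * y = y * x := by
    intro x hx y hy
    induction hx, hy using Subgroup.closure_induction₂ with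
    | mem x y hx hy =>
      obtain ⟨k, rfl⟩ := hx
      obtain ⟨l, rfl⟩ := hy
      exact (hrel k).2 l
    | one_left y _ => rw [one_mul, mul_one]
    | one_right x _ => rw [one_mul, mul_one]
    | mul_left x y z _ _ _ h1 h2 => exact ((show Commute x z from h1).mul_left h2).eq
    | mul_right y z x _ _ _ h1 h2 => exact ((show Commute x y from h1).mul_right h2).eq
    | inv_left x y _ _ h => exact (show Commute x y from h).inv_left.eq
    | inv_right x y _ _ h => exact (show Commute x y from h).inv_right.eq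
  refine ⟨⟨⟨fun x y => Subtype.ext (hc x x.2 y y.2)⟩⟩, fun x hx => ?_⟩
  induction hx using Subgroup.closure_induction with
  | mem y hy =>
    obtain ⟨k, rfl⟩ := hy
    rw [pow_two]
    exact (hrel k).1
  | one => rw [one_pow]
  | mul a b ha hb iha ihb => rw [(show Commute a b from hc a ha b hb).mul_pow, iha, ihb, one_mul]
  | inv a _ ih => rw [inv_pow, ih, inv_one]

include F in
theorem o6_core : Cfsg.pCore 2 O6 = ⊥ := by
  haveI : Fact (Nat.Prime 2) := ⟨Nat.prime_two⟩
  obtain ⟨e1⟩ := F.range_equiv CfsgLib.Recog.SporBound.Fi22U6.F4.card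
  obtain ⟨e2⟩ := nonempty_aut
  let e : O6 ≃* F.psi.range := e2.trans e1.symm
  refine (Subgroup.eq_bot_iff_forall _).2 fun x hx => e.injective ?_
  have h := CfsgLib.Core.map_pCore_le (p := 2) e.toMonoidHom e.surjective ⟨x, hx, rfl⟩
  rw [F.range_core, Subgroup.mem_bot] at h
  rw [map_one]
  exact h

/-- The structure of the third fixed group. -/
theorem Fx2_structure : Cfsg.IsElementaryAbelian 2 F.E6 ∧ Nat.card F.E6 = 64 ∧ F.Gab = F.Fx 2 ∧
    Cfsg.pCore 2 F.Gab = F.psi2.ker ∧ (Cfsg.pCore 2 F.Gab).map F.Gab.subtype = F.E6 ∧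
    Nonempty (↥F.Gab ⧸ F.psi2.ker ≃* O6) := by
  haveI : Fact (Nat.Prime 2) := ⟨Nat.prime_two⟩
  obtain ⟨hG, -, hE, hker⟩ := F.cards2
  have hk : IsPGroup 2 F.psi2.ker := by
    refine IsPGroup.of_card (n := 6) ?_
    rw [hker, Nat.card_congr (Subgroup.subgroupOfEquivOfLe F.E6_le_Gab).toEquiv, hE]
    norm_num
  have hcore : Cfsg.pCore 2 F.Gab = F.psi2.ker := by
    refine le_antisymm (fun x hx => ?_) (CfsgLib.Core.le_pCore hk)
    have h := CfsgLib.Core.map_pCore_le (p := 2) F.psi2 F.psi2_surj ⟨x, hx, rfl⟩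
    rw [F.o6_core, Subgroup.mem_bot] at h
    exact MonoidHom.mem_ker.2 h
  refine ⟨F.E6_elementary, hE, hG, hcore, ?_,
    ⟨QuotientGroup.quotientKerEquivOfSurjective _ F.psi2_surj⟩⟩
  rw [hcore, hker]
  exact Subgroup.map_subgroupOf_eq_of_le F.E6_le_Gab

end CfsgLib.Recog.SporBound.Fi22Pair.Frame
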