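import Cfsg.Agent.Lib.Recog.SporBound.Fi22Outer.One
import Cfsg.Agent.Lib.Recog.SporBound.Fi22Outer.Two

set_option autoImplicit false
set_option maxRecDepth 20000

/-!
The three representatives are not conjugate: their fixed groups have different orders (owner: helper24).
-/

namespace CfsgLib.Recog.SporBound.Fi22Pair.Frame

open CfsgLib.Recog.SporBound.Fi22Outer
open CfsgLib.Recog.SporBound.Fi22Aut

variable {A : Type*} [Group A] [Finite A] (F : Frame A)

theorem card_Fx_of_conj {i j : ℕ} (h : IsConj (F.rep3 i) (F.rep3 j)) : Nat.card (F.Fx i) ≤ Nat.card (F.Fx j) := by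
  obtain ⟨c, hc⟩ := isConj_iff.1 h
  haveI := Subgroup.normal_of_index_eq_two F.index_Inner
  refine Nat.card_le_card_of_injective
    (fun x : F.Fx i => (⟨c * x * c⁻¹, F.mem_Fx.2 ⟨this.conj_mem _ (F.mem_Fx.1 x.2).1 c, ?_⟩⟩ : F.Fx j)) ?_
  · rw [← hc]
    calc c * (x : A) * c⁻¹ * (c * F.rep3 i * c⁻¹) = c * ((x : A) * F.rep3 i) * c⁻¹ := by group
      _ = _ := by rw [(F.mem_Fx.1 x.2).2]; group
  · intro x y e
    exact Subtype.ext (mul_left_cancel (mul_right_cancel (congrArg Subtype.val e)))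

theorem card_Fx : Nat.card (F.Fx 0) = 1045094400 ∧ Nat.card (F.Fx 1) = 2903040 ∧ Nat.card (F.Fx 2) = 3317760 :=
  ⟨F.cards0.1 ▸ F.cards0.2.1, F.cards1.1 ▸ F.cards1.2, F.cards2.1 ▸ F.cards2.2.1⟩

theorem not_conj : ¬ IsConj (F.rep3 0) (F.rep3 1) ∧ ¬ IsConj (F.rep3 0) (F.rep3 2) ∧
    ¬ IsConj (F.rep3 1) (F.rep3 2) := by
  obtain ⟨h0, h1, h2⟩ := F.card_Fx
  refine ⟨fun h => ?_, fun h => ?_, fun h => ?_⟩
  · have := F.card_Fx_of_conj h; omega
  · have := F.card_Fx_of_conj h; omega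
  · have := F.card_Fx_of_conj h.symm; omega

theorem rep_two : F.rep3 2 = F.rep3 0 * (F.el (false, [7]) * F.el (false, [9])) :=
  F.eq_of_agree (f := ev (repD 2)) (g := fun c => ev (repD 0) (ev (false, [7]) (ev (false, [9]) c)))
    (F.rep3_spec (by norm_num))
    (F.mul_spec (g := fun c => ev (false, [7]) (ev (false, [9]) c)) (F.rep3_spec (by norm_num))
      (F.mul_spec (F.el_spec (fits_of_all (by decide +kernel))) (F.el_spec (fits_of_all (by decide +kernel)))))
    (by decide +kernel)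

theorem nine_mem : F.el (false, [9]) ∈ F.Fx 0 := (F.el_Fx (by norm_num) (by decide +kernel)).2

end CfsgLib.Recog.SporBound.Fi22Pair.Frame
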