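import Cfsg.Agent.Lib.Recog.SporBound.Fi22Outer.Reduce
import Cfsg.Agent.Lib.Recog.SporBound.Fi22Outer.Cert0
import Cfsg.Agent.Lib.Recog.SporBound.Fi22Outer.Cert1
import Cfsg.Agent.Lib.Recog.SporBound.Fi22Outer.Cert2
import Mathlib.GroupTheory.Perm.Cycle.Type

set_option autoImplicit false
set_option maxRecDepth 20000

/-!
Every outer involution fixing a row is conjugate to one of three representatives (owner: helper24).
-/

namespace CfsgLib.Recog.SporBound.Fi22Outer

open CfsgLib.Recog.SporBound.Fi22Pair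

theorem cert_all {i : ℕ} (hi : i < 3) {j : ℕ} (hj : j < 4) : certPart i j = true := by
  interval_cases i <;> interval_cases j
  exacts [cert00, cert01, cert02, cert03, cert10, cert11, cert12, cert13, cert20, cert21, cert22, cert23]

theorem allFrom_spec {f : ℕ → List (Bool × List ℕ) → Bool} : ∀ (l : List (List (Bool × List ℕ))) (k : ℕ),
    allFrom f l k = true → ∀ q ∈ l, ∃ j, f j q = true
  | [], _, _, q, hq => absurd hq List.not_mem_nil
  | a :: l, k, h, q, hq => by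
    rw [allFrom, Bool.and_eq_true] at h
    rcases List.mem_cons.1 hq with rfl | hq
    exacts [⟨k, h.1⟩, allFrom_spec l (k + 1) h.2 q hq]

theorem qSeqs_length : (qSeqs 5).length = 2048 := by decide +kernel

theorem cert_spec {i : ℕ} (hi : i < 3) {q : List (Bool × List ℕ)} (hq : q ∈ qSeqs 5) :
    ∃ idx, certOK i idx q = true := by
  obtain ⟨n, hn, rfl⟩ := List.getElem_of_mem hq
  have h2 : n < 2048 := qSeqs_length ▸ hn
  refine allFrom_spec _ _ (cert_all hi (j := n / 512) (by omega)) _ (List.mem_iff_getElem.2 ⟨n % 512, ?_, ?_⟩)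
  · rw [List.length_take, List.length_drop, qSeqs_length]; omega
  · rw [List.getElem_take, List.getElem_drop]
    congr 1
    omega

theorem rep_fitsR {i : ℕ} (hi : i < 3) : Frame.Fits (repData.getD i zData) := by
  have hlen : repData.length = 3 := rfl
  rw [List.getD_eq_getElem _ _ (hlen ▸ hi)]
  exact fits_of_all (List.all_eq_true.1 rep_fits _ (List.getElem_mem _))

end CfsgLib.Recog.SporBound.Fi22Outer

namespace CfsgLib.Recog.SporBound.Fi22Pair.Frame

open CfsgLib.Recog.SporBound.Fi22Outer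
open CfsgLib.Recog.SporBound.Fi22Aut
open CfsgLib.Recog.SporBound.Fi22U6 (origin base orbit_iff stab_eq)
open CfsgLib.Recog.SporBound.Fi22Group (act)
open CfsgLib.ThreeTrans.CosetIndex

variable {A : Type*} [Group A] [Finite A] (F : Frame A)

/-- A representative. -/
noncomputable def rep3 (i : ℕ) : A := F.el (repData.getD i zData)

/-- Being conjugate to a representative. -/
def Classified (α : A) : Prop := ∃ i < 3, IsConj (F.rep3 i) α

theorem classified_of_conj {α : A} (g : A) (h : F.Classified (g * α * g⁻¹)) : F.Classified α := by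
  obtain ⟨i, hi, hc⟩ := h
  exact ⟨i, hi, hc.trans (isConj_iff.2 ⟨g⁻¹, by group⟩)⟩

theorem outer_inv {α : A} (h2 : α * α = 1) (ho : α ∉ F.Inner) (g : A) :
    g * α * g⁻¹ * (g * α * g⁻¹) = 1 ∧ g * α * g⁻¹ ∉ F.Inner := by
  refine ⟨by rw [show g * α * g⁻¹ * (g * α * g⁻¹) = g * (α * α) * g⁻¹ by group, h2, mul_one, mul_inv_cancel],
    fun h => ho ?_⟩
  haveI := Subgroup.normal_of_index_eq_two F.index_Inner
  have := this.conj_mem _ h g⁻¹
  simpa [mul_assoc] using this

theorem oddEl_facts : F.el oddData ∈ F.C ∧ F.θ (F.el oddData) origin = origin ∧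
    ∀ h : F.el oddData ∈ F.C, ∀ m : Fin 45, ((F.psi ⟨F.el oddData, h⟩ m : Fin 45) : ℕ) = oddFn m := by
  have h := odd_ok
  simp only [Bool.and_eq_true] at h
  have hf := fits_of_all h.1.1.1
  refine ⟨F.el_mem_C hf h.1.1.2 h.1.2, Fin.ext ?_, fun hm m => ?_⟩
  · rw [F.el_spec hf]; exact Nat.eq_of_beq_eq_true odd_fix
  have h2 := List.all_eq_true.1 h.2 (m : ℕ) (List.mem_range.2 m.2)
  rw [Bool.and_eq_true, Nat.blt_eq] at h2
  rw [F.psi_eq ⟨F.el oddData, hm⟩ (repR_mem m) (l := ⟨_, h2.1⟩) (by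
    show inFib (oddPerm.getD m 0) ((F.θ (F.el oddData) (repR m) : Row) : ℕ) = true
    rw [F.el_spec hf]
    exact h2.2)]
  rfl

/-- The inner elements of the centralizer fixing the first row. -/
noncomputable def K0 : Subgroup F.C :=
  (F.Inner ⊓ (MulAction.stabilizer (Equiv.Perm Row) (origin : Row)).comap F.θ).comap F.C.subtype

theorem n45_le_K0 : N45 ≤ (F.K0).map F.psi :=
  (Subgroup.closure_le _).2 fun _ ⟨k, e⟩ => ⟨F.gK k, ⟨F.gK_inner k, F.gK_origin k⟩, (F.psi_gK k).trans e⟩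

theorem classify_kernel {i : ℕ} (hi : i < 3) {α : A} (h2 : α * α = 1) (hα0 : F.θ α origin = origin) {q : A}
    (hq : q ∈ F.Qs) (e : α = F.seq (rootSeq i) * q) : F.Classified α := by
  obtain ⟨l, hl, rfl⟩ := F.exists_qSeq' hq
  have hroot : ∀ k ∈ rootData.getD i [], k < 45 := fun k hk => by
    have h := List.all_eq_true.1 root_lt i (List.mem_range.2 hi)
    simpa using List.all_eq_true.1 h k hk
  have hfit : ∀ d ∈ rootSeq i ++ l, Fits d := fun d hd => by
    rcases List.mem_append.1 hd with hd | hd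
    · rcases List.mem_cons.1 hd with rfl | hd
      · have h := odd_ok
        simp only [Bool.and_eq_true] at h
        exact fits_of_all h.1.1.1
      · exact gSeq_fits hroot d hd
    · exact qSeq_fits 5 le_rfl l hl d hd
  rw [← seq_append] at e
  have hs : ∀ c : Row, ((F.θ α c : Row) : ℕ) = evSeq (rootSeq i ++ l) c := fun c => by
    rw [e]; exact F.seq_spec hfit c
  obtain ⟨idx, hc⟩ := cert_spec hi hl
  simp only [certOK, Bool.or_eq_true, Bool.not_eq_true'] at hc
  rcases hc with (hc | hc) | hc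
  · have := hs origin
    rw [hα0] at this
    rw [show evSeq (rootSeq i ++ l) 0 = 0 from this.symm, show Nat.beq 0 0 = true from rfl] at hc
    exact Bool.noConfusion hc
  · rw [F.agree_of_eq (F.mul_spec hs hs) F.one_spec h2] at hc
    exact Bool.noConfusion hc
  · obtain ⟨d, -, hd⟩ := List.any_eq_true.1 hc
    simp only [Bool.and_eq_true] at hd
    obtain ⟨⟨⟨-, hlt⟩, hfd⟩, hag⟩ := hd
    rw [Nat.blt_eq] at hlt
    have hfd' : Fits d.2.2 := fits_of_all hfd
    refine ⟨d.2.1, hlt, isConj_iff.2 ⟨F.el d.2.2, ?_⟩⟩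
    rw [mul_inv_eq_iff_eq_mul]
    exact F.eq_of_agree (α := F.el d.2.2 * F.el (repData.getD d.2.1 zData)) (β := α * F.el d.2.2)
      (F.mul_spec (F.el_spec hfd') (F.el_spec (rep_fitsR hlt)))
      (F.mul_spec hs (F.el_spec hfd')) hag

theorem classify_fibre {α : A} (h2 : α * α = 1) (ho : α ∉ F.Inner) (h0 : F.θ α origin = origin) (hC : α ∈ F.C)
    (hk : F.psi ⟨α, hC⟩ 0 = 0) : F.Classified α := by
  obtain ⟨hoC, ho0, hoψ⟩ := F.oddEl_facts
  set o : F.C := ⟨F.el oddData, hoC⟩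
  -- the image is odd
  have hnot : F.psi ⟨α, hC⟩ ∉ N45 := by
    intro hin
    obtain ⟨g, ⟨hgI, hg0⟩, hge⟩ := F.n45_le_K0 hin
    have hq : (g : A)⁻¹ * α ∈ F.Qs := F.mem_Qs.2 ⟨mul_mem (inv_mem g.2) hC, by
      show F.psi (g⁻¹ * ⟨α, hC⟩) = 1
      rw [map_mul, map_inv, hge, inv_mul_cancel]⟩
    obtain ⟨l, hl, el⟩ := F.exists_qSeq' hq
    have hfix : F.θ (F.seq l) origin = origin := by
      rw [← el, map_mul, Equiv.Perm.mul_apply, h0, map_inv, Equiv.Perm.inv_eq_iff_eq]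
      exact (MulAction.mem_stabilizer_iff.1 hg0).symm
    have hev : evSeq l 0 = 0 := by
      have h := F.seq_spec (qSeq_fits 5 le_rfl l hl) origin
      rw [hfix] at h
      exact h.symm
    have h := List.all_eq_true.1 q_inner l hl
    rw [hev] at h
    simp only [Nat.beq_refl, Bool.not_true, Bool.or_false, List.all_eq_true, Bool.not_eq_true'] at h
    refine ho ?_
    have hmem : F.seq l ∈ F.Inner := list_prod_mem fun x hx => by
      obtain ⟨⟨b, w⟩, hd, rfl⟩ := List.mem_map.1 hx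
      obtain rfl : b = false := h _ hd
      exact F.el_inner (qSeq_fits 5 le_rfl l hl _ hd)
    rw [show α = (g : A) * F.seq l by rw [← el, mul_inv_cancel_left]]
    exact mul_mem hgI hmem
  have hidx : (N45.subgroupOf F.psi.range).index = 2 := by
    have h := (N45.subgroupOf F.psi.range).index_mul_card
    rw [Nat.card_congr (Subgroup.subgroupOfEquivOfLe F.n45_le).toEquiv, card_n45, F.cards.1] at h
    omega
  have ho45 : F.psi o ∉ N45 := fun h => by
    have e : F.psi o = swapPerm oddSwaps := Equiv.ext fun m => Fin.ext ((hoψ hoC m).trans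
      (of_decide_eq_true (List.all_eq_true.1 swap_ok.1 m (List.mem_finRange m))).symm)
    have hs := sign_n45 h
    rw [e, sign_swapPerm _ fun x hx => of_decide_eq_true (List.all_eq_true.1 swap_ok.2.1 x hx), swap_ok.2.2] at hs
    exact absurd hs (by decide)
  have hn : (F.psi o)⁻¹ * F.psi ⟨α, hC⟩ ∈ N45 :=
    (Subgroup.mul_mem_iff_of_index_two hidx (a := ⟨_, inv_mem ⟨o, rfl⟩⟩) (b := ⟨_, ⟨_, rfl⟩⟩)).2
      ⟨fun h => absurd (inv_mem_iff.1 h) ho45, fun h => absurd h hnot⟩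
  have hn0 : ((F.psi o)⁻¹ * F.psi ⟨α, hC⟩) 0 = 0 := by
    rw [Equiv.Perm.mul_apply, hk, Equiv.Perm.inv_eq_iff_eq]
    exact Fin.ext ((hoψ hoC 0).trans stab_ok.2.2).symm
  obtain ⟨e, he, hw, hwe⟩ := stab_list hn hn0
  have hα45 : ∀ m : Fin 45, ((F.psi ⟨α, hC⟩ m : Fin 45) : ℕ) = oddFn (wordFn e.1 m) := fun m => by
    rw [show F.psi ⟨α, hC⟩ = F.psi o * wP e.1 by rw [← hwe, mul_inv_cancel_left], Equiv.Perm.mul_apply, hoψ hoC,
      wP_val _ hw]
  have hinv := List.all_eq_true.1 inv_ok e he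
  simp only [invOK, Bool.or_eq_true, Bool.and_eq_true, List.any_eq_true, List.all_eq_true, Bool.not_eq_true',
    Nat.blt_eq, List.mem_range] at hinv
  rcases hinv with ⟨c, hc, hne⟩ | ⟨⟨⟨hpos, hlt⟩, hm⟩, hconj⟩
  · exfalso
    rw [← hα45 ⟨c, hc⟩, ← hα45] at hne
    have e1 : F.psi ⟨α, hC⟩ * F.psi ⟨α, hC⟩ = 1 := by
      rw [← map_mul, show (⟨α, hC⟩ : F.C) * ⟨α, hC⟩ = 1 from Subtype.ext h2, map_one]
    rw [← Equiv.Perm.mul_apply, e1, Equiv.Perm.one_apply, show Nat.beq c c = true from Nat.beq_refl c] at hne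
    exact Bool.noConfusion hne
  · set i := e.2.2 - 1
    set g : A := ((F.gW e.2.1 : F.C) : A)
    refine F.classified_of_conj g ?_
    obtain ⟨h2', -⟩ := F.outer_inv h2 ho g
    have hgC : g ∈ F.C := (F.gW e.2.1).2
    have h0' : F.θ (g * α * g⁻¹) origin = origin := by
      have hg := (F.gW_inner e.2.1).2
      rw [map_mul, map_mul, Equiv.Perm.mul_apply, Equiv.Perm.mul_apply, map_inv,
        (Equiv.Perm.inv_eq_iff_eq).2 hg.symm, h0, hg]
    have hroot : ∀ k ∈ rootData.getD i [], k < 45 := fun k hk => by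
      have h := List.all_eq_true.1 root_lt i (List.mem_range.2 hlt)
      simpa using List.all_eq_true.1 h k hk
    refine F.classify_kernel hlt h2' h0'
      (q := (F.seq (rootSeq i))⁻¹ * (g * α * g⁻¹)) ?_ (mul_inv_cancel_left _ _).symm
    have hseq : F.seq (rootSeq i) = ((o * F.gW (rootData.getD i []) : F.C) : A) := by
      rw [Subgroup.coe_mul, F.gW_seq _ hroot, rootSeq, seq, List.map_cons, List.prod_cons]
      rfl
    rw [hseq]
    refine F.mem_Qs.2 ⟨mul_mem (inv_mem (o * F.gW (rootData.getD i []) : F.C).2)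
      (mul_mem (mul_mem hgC hC) (inv_mem hgC)), ?_⟩
    show F.psi ((o * F.gW (rootData.getD i []))⁻¹ * (F.gW e.2.1 * ⟨α, hC⟩ * (F.gW e.2.1)⁻¹)) = 1
    simp only [map_mul, map_inv, F.psi_gW]
    rw [inv_mul_eq_one, eq_mul_inv_iff_mul_eq]
    refine Equiv.ext fun m => Fin.ext ?_
    have hm45 : ∀ k ∈ e.2.1, k < 45 := hm
    simp only [Equiv.Perm.mul_apply]
    rw [hoψ hoC, wP_val _ hroot, wP_val _ hm45, wP_val _ hm45, hα45]
    exact (Nat.eq_of_beq_eq_true (hconj m m.2)).symm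

theorem classify_row0 {α : A} (h2 : α * α = 1) (ho : α ∉ F.Inner) (h0 : F.θ α origin = origin)
    (h7 : F.θ α base = base) : F.Classified α := by
  haveI : Fact (Nat.Prime 2) := ⟨Nat.prime_two⟩
  have hC : α ∈ F.C := (F.mem_C_iff α).2 ⟨by rw [h0]; rfl, by rw [h7]; rfl⟩
  have hsq : F.psi ⟨α, hC⟩ ^ 2 ^ 1 = 1 := by
    rw [pow_one, pow_two, ← map_mul, show (⟨α, hC⟩ : F.C) * ⟨α, hC⟩ = 1 from Subtype.ext h2, map_one]
  obtain ⟨k, hk⟩ := Equiv.Perm.exists_fixed_point_of_prime (p := 2) (by rw [Fintype.card_fin]; decide) hsq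
  obtain ⟨g, -, hgk, w, hw, rfl⟩ := move_spec k
  set γ : A := ((F.gW w : F.C) : A)
  refine F.classified_of_conj γ⁻¹ ?_
  obtain ⟨h2', ho'⟩ := F.outer_inv h2 ho γ⁻¹
  have hγ : γ ∈ F.C := (F.gW w).2
  have hγ0 : F.θ γ origin = origin := (F.gW_inner w).2
  refine F.classify_fibre h2' ho' ?_ (mul_mem (mul_mem (inv_mem hγ) hC) (inv_mem (inv_mem hγ))) ?_
  · rw [inv_inv, map_mul, map_mul, Equiv.Perm.mul_apply, Equiv.Perm.mul_apply, hγ0, h0, map_inv,
      (Equiv.Perm.inv_eq_iff_eq).2 hγ0.symm]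
  · show F.psi ((F.gW w)⁻¹ * ⟨α, hC⟩ * ((F.gW w)⁻¹)⁻¹) 0 = 0
    rw [inv_inv, map_mul, map_mul, map_inv, F.psi_gW, Equiv.Perm.mul_apply, Equiv.Perm.mul_apply, hgk, hk,
      Equiv.Perm.inv_eq_iff_eq, hgk]

theorem classify {α : A} (h2 : α * α = 1) (ho : α ∉ F.Inner) (hfix : ∃ r : Row, F.θ α r = r) : F.Classified α := by
  classical
  haveI : Fact (Nat.Prime 2) := ⟨Nat.prime_two⟩
  obtain ⟨r, hr⟩ := hfix
  obtain ⟨γ, hγ⟩ := F.inner (gr r)
  refine F.classified_of_conj γ⁻¹ ?_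
  obtain ⟨h2', ho'⟩ := F.outer_inv h2 ho γ⁻¹
  set β := γ⁻¹ * α * γ⁻¹⁻¹
  have hgr : F.θ γ origin = r := by rw [hγ]; exact gr_origin r
  have h0 : F.θ β origin = origin := by
    show F.θ (γ⁻¹ * α * γ⁻¹⁻¹) origin = origin
    rw [inv_inv, map_mul, map_mul, Equiv.Perm.mul_apply, Equiv.Perm.mul_apply, hgr, hr, map_inv,
      Equiv.Perm.inv_eq_iff_eq, hgr]
  -- the neighbours of the first row
  let N := {s : Row // FiHat3510.mask0.testBit s = true}
  have hN : ∀ s : Row, FiHat3510.mask0.testBit s = true ↔ com origin s ∧ s ≠ origin := fun s => by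
    have h := eq_of_beq (List.all_eq_true.1 nbr_ok s (List.mem_range.2 s.2))
    rw [h, Bool.and_eq_true, Bool.not_eq_true', show comB 0 s = comB (origin : Row) s from rfl, comB_iff]
    refine and_congr_right fun _ => ⟨fun h e => ?_, fun h => Bool.eq_false_iff.2 fun e => h (Fin.ext (Nat.eq_of_beq_eq_true e))⟩
    subst e
    exact absurd h (by decide)
  have hmap : ∀ s : Row, FiHat3510.mask0.testBit s = true → FiHat3510.mask0.testBit (F.θ β s) = true := fun s hs => by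
    obtain ⟨hc, hne⟩ := (hN s).1 hs
    exact (hN _).2 ⟨h0 ▸ (F.com_iff' β origin s).2 hc, fun e => hne ((F.θ β).injective (e.trans h0.symm))⟩
  have hββ : ∀ s : Row, F.θ β (F.θ β s) = s := fun s => by
    rw [← Equiv.Perm.mul_apply, ← map_mul, h2', map_one, Equiv.Perm.one_apply]
  let π : Equiv.Perm N :=
    ⟨fun s => ⟨F.θ β s, hmap s s.2⟩, fun s => ⟨F.θ β s, hmap s s.2⟩, fun s => Subtype.ext (hββ _),
      fun s => Subtype.ext (hββ _)⟩
  have hπ : π ^ 2 ^ 1 = 1 := Equiv.ext fun s => Subtype.ext (by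
    rw [pow_one, pow_two]; exact hββ s)
  obtain ⟨⟨s, hs⟩, hfs⟩ := Equiv.Perm.exists_fixed_point_of_prime (p := 2)
    (by rw [← Nat.card_eq_fintype_card, show Nat.card N = 693 from card_nbr]; decide) hπ
  have hfs' : F.θ β s = s := congrArg Subtype.val hfs
  obtain ⟨k, hk, hks⟩ := (orbit_iff s).1 hs
  obtain ⟨δ, hδ⟩ := F.inner k
  have d0 : F.θ δ origin = origin := by rw [hδ]; exact stab_eq.2 hk
  have d7 : F.θ δ base = s := by rw [hδ, hks]
  refine F.classified_of_conj δ⁻¹ ?_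
  obtain ⟨h2'', ho''⟩ := F.outer_inv h2' ho' δ⁻¹
  refine F.classify_row0 h2'' ho'' ?_ ?_
  · rw [inv_inv, map_mul, map_mul, Equiv.Perm.mul_apply, Equiv.Perm.mul_apply, d0, h0, map_inv,
      Equiv.Perm.inv_eq_iff_eq, d0]
  · rw [inv_inv, map_mul, map_mul, Equiv.Perm.mul_apply, Equiv.Perm.mul_apply, d7, hfs', map_inv,
      Equiv.Perm.inv_eq_iff_eq, d7]

end CfsgLib.Recog.SporBound.Fi22Pair.Frame
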