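import Cfsg.Agent.Lib.Recog.SporBound.PatternBound

set_option autoImplicit false

/-! Bases for the centralizers of the outer involutions of Fi22 (owner: helper24). -/

namespace CfsgLib.Recog.SporBound.Fi22Outer

open CfsgLib.Recog.SporBound.PatternBound (Step)

/-- The steps for the three representatives. -/
def stepData : List (List Step) := [[.base 3330 [] 360, .base 1172 [0] 63, .base 2048 [1, 0] 32, .cj 2 0, .base 3394 [2, 0, 1] 12, .cj 4 0, .cj 4 1, .cj 4 3, .cj 1 7, .base 69 [2, 0, 4, 1] 5, .cj 9 0, .cj 9 1, .cj 9 3, .cj 9 5, .cj 9 6, .base 2609 [0, 6, 13, 7] 6, .cj 15 1, .cj 15 8, .base 1680 [0, 11, 8, 16] 4, .tu 18, .cj 18 1, .cj 18 2, .cj 18 5, .cj 18 14, .cj 19 14, .cj 18 15, .cj 18 17, .cj 19 17, .cj 15 20, .cj 9 21, .cj 19 25, .cj 2 26, .cj 2 27, .cj 9 31, .cj 9 32, .base 3288 [32, 29, 28, 10, 5] 2, .tu 35, .cj 35 12, .cj 36 12,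 .cj 35 18, .cj 36 22, .cj 35 23, .cj 36 24, .cj 35 30, .cj 36 33, .cj 35 34, .cj 18 37, .cj 19 38, .cj 1 39, .cj 9 40, .cj 2 41, .cj 2 42, .cj 36 43, .cj 19 44, .cj 18 45, .cj 4 48, .cj 4 50, .cj 4 51],
  [.base 7 [] 1, .base 3266 [] 63, .base 2368 [1] 32, .cj 2 1, .base 2326 [1, 2] 30, .tu 4, .base 2645 [1, 2, 4, 5] 8, .tu 6, .base 2471 [6, 1, 2, 4, 5] 6, .tu 8, .cj 8 2, .cj 9 2, .cj 8 3, .cj 4 10, .cj 9 10, .cj 4 12, .cj 5 12, .base 3117 [4, 9, 3, 10, 1, 6] 1, .tu 17, .cj 17 0, .cj 18 4, .cj 17 5, .cj 17 7, .cj 17 8, .cj 18 15, .cj 5 19, .cj 6 20, .cj 18 21, .cj 17 26, .cj 6 27, .base 2681 [23, 14, 16, 22, 1] 2, .tu 30, .cj 31 3, .cj 31 11, .cj 30 13, .cj 31 13, .cj 31 20, .cj 31 24, .cj 30 25, .cj 30 28, .cj 30 29, .cj 17 32, .cj 17 33, .cj 1 36, .cj 1 37, .cj 1 38, .cj 31 39, .cj 31 40, .cj 30 41, .cj 5 42, .cj 18 44, .cj 9 48, .cj 18 51],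
  [.base 297 [] 72, .base 339 [0] 40, .cj 1 0, .base 7 [0, 1] 12, .base 8 [0, 3, 1] 12, .cj 4 2, .cj 4 3, .cj 3 5, .base 446 [0, 5, 3, 1] 2, .cj 8 2, .cj 8 4, .cj 8 6, .base 146 [1, 4, 3, 0, 9] 1, .cj 12 5, .cj 12 7, .cj 12 10, .cj 8 13, .cj 8 14, .cj 0 15, .base 1361 [1, 6, 12, 3] 4, .cj 19 0, .cj 19 8, .cj 19 11, .cj 19 18, .cj 3 20, .cj 8 24, .cj 19 25, .base 944 [0, 5, 24, 6, 8] 2, .tu 27, .cj 28 10, .cj 27 16, .cj 28 21, .cj 27 22, .cj 28 22, .cj 27 23, .cj 27 26, .cj 12 29, .cj 19 30, .cj 4 31, .cj 3 32, .cj 3 33, .cj 12 34, .cj 12 35, .cj 19 36, .cj 8 37, .cj 27 38, .cj 8 39, .cj 8 40, .cj 19 41, .cj 28 42, .cj 28 43, .cj 27 44, .cj 8 45, .cj 27 46, .cj 28 47, .cj 28 48, .cj 1 49, .cj 8 50]]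

/-- The rows fixed by the second representative. -/
def fixOne : List ℕ := [7, 9, 24, 42, 51, 60, 125, 127, 146, 150, 219, 254, 255, 297, 298, 339, 446, 658, 680, 765, 1040, 1045, 1238, 1267, 1351, 1427, 1540, 1654, 1817, 1839, 2073, 2074, 2142, 2337, 2364, 2365, 2368, 2413, 2433, 2554, 2555, 2601, 2817, 2827, 2857, 2878, 2900, 2901, 2902, 2905, 2910, 2942, 2950, 3061, 3110, 3262, 3266, 3417, 3418, 3420, 3422, 3439, 3462, 3509]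

end CfsgLib.Recog.SporBound.Fi22Outer
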