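import Cfsg.Agent.Lib.Recog.SporBound.Fi22Pair.Main

set_option autoImplicit false
set_option maxRecDepth 20000

/-!
Inner and outer elements of a frame of the automorphism group of Fi22 (owner: helper24).
-/

namespace CfsgLib.Recog.SporBound.Fi22Pair

open Cfsg CfsgLib.ThreeTrans.CosetIndex
open CfsgLib.Recog.SporBound.Fi22Group (a act card_and_faithful finite_fi22)
open CfsgLib.Recog.SporBound.Fi22Aut

local notation "𝔾" => Cfsg.Spor.Fi22

/-- The diagram automorphism is not an inner element on the rows. -/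
theorem pi_not_act (g : 𝔾) : ¬ ∀ r : Row, piTree.get r = ((act g r : Row) : ℕ) := by
  intro h
  obtain ⟨σ, hσ⟩ := exists_sigma
  obtain ⟨F, hF⟩ := exists_frame
  refine sigma_not_inner hσ ⟨g, F.injective ?_⟩
  rw [hF, theta_conj]
  exact Equiv.ext fun r => Fin.ext (((theta_sigma hσ r).trans (h r)).symm)

namespace Frame

variable {A : Type*} [Group A] (F : Frame A)

/-- The inner elements. -/
noncomputable def Inner : Subgroup A := (act : 𝔾 →* Equiv.Perm Row).range.comap F.θ

theorem mem_Inner {α : A} : α ∈ F.Inner ↔ ∃ g : 𝔾, act g = F.θ α := Iff.rfl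

theorem el_inner {w : List ℕ} (h : Fits (false, w)) : F.el (false, w) ∈ F.Inner := by
  obtain ⟨g, hg⟩ := exists_word w h
  exact ⟨g, Equiv.ext fun c => Fin.ext (by rw [hg, F.el_spec h]; rfl)⟩

theorem el_outer {w : List ℕ} (h : Fits (true, w)) : F.el (true, w) ∉ F.Inner := by
  intro hin
  have hw : Fits (false, w) := h
  obtain ⟨g, hg⟩ := mul_mem hin (inv_mem (F.el_inner hw))
  refine pi_not_act g fun r => ?_
  obtain ⟨c, rfl⟩ := (F.θ (F.el (false, w))).surjective r
  rw [hg, map_mul, map_inv, Equiv.Perm.mul_apply, Equiv.Perm.coe_inv, Equiv.symm_apply_apply, F.el_spec hw,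
    F.el_spec h]
  rfl

theorem fits_nil (b : Bool) : Fits (b, []) := fun _ hr => absurd hr List.not_mem_nil

theorem card_Inner : Nat.card F.Inner = 64561751654400 := by
  rw [← card_and_faithful.1]
  refine (Nat.card_eq_of_bijective
    (fun g : 𝔾 => (⟨(F.inner g).choose, g, ((F.inner g).choose_spec).symm⟩ : F.Inner)) ⟨fun g h e => ?_, ?_⟩).symm
  · have e' := congrArg (fun x : F.Inner => F.θ x) e
    simp only [(F.inner g).choose_spec, (F.inner h).choose_spec] at e'
    exact card_and_faithful.2.1 e'
  · rintro ⟨α, g, hg⟩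
    exact ⟨g, Subtype.ext (F.injective ((F.inner g).choose_spec.trans hg))⟩

theorem index_Inner [Finite A] : F.Inner.index = 2 := by
  have h := F.Inner.index_mul_card
  have hle := F.card_le
  rw [F.card_Inner] at h
  have h1 : F.Inner.index ≠ 1 := fun e =>
    F.el_outer (fits_nil true) ((Subgroup.index_eq_one.1 e) ▸ Subgroup.mem_top _)
  have h0 : F.Inner.index ≠ 0 := Subgroup.index_ne_zero_of_finite
  rw [← h] at hle
  omega

theorem mul_mem_Inner [Finite A] {α β : A} (ha : α ∉ F.Inner) (hb : β ∉ F.Inner) : α * β ∈ F.Inner :=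
  (Subgroup.mul_mem_iff_of_index_two F.index_Inner).2 ⟨fun h => absurd h ha, fun h => absurd h hb⟩

include F in
theorem card_A [Finite A] : Nat.card A = 2 * 64561751654400 := by
  have h := F.Inner.index_mul_card
  rw [F.index_Inner, F.card_Inner] at h
  exact h.symm

end Frame

end CfsgLib.Recog.SporBound.Fi22Pair
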