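import Cfsg.Agent.Lib.Recog.SporBound.Fi22Outer.Zero
import Cfsg.Agent.Lib.Schur.Coxeter.SpSix
import Mathlib.GroupTheory.Perm.Sign

set_option autoImplicit false
set_option maxRecDepth 20000

/-!
The fixed group of the second representative: the stabiliser of a fixed row in that of the first, a group of
order 2 times Sp(6, 2) (owner: helper24).
-/

namespace CfsgLib.Recog.SporBound.Fi22Outer

open CfsgLib.Recog.SporBound.Fi22Pair
open CfsgLib.Schur.Cox
open CfsgLib.Schur.Cox.SpSix (vec6 vec6_cases)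
open scoped Matrix

/-- The seven generating rows with the permutations of their transvections. -/
noncomputable def labelSevenOK : Bool :=
  (List.range 7).all fun i => (List.range 63).all fun m =>
    let x := traC (([32, 16, 4, 34, 24, 1, 8] : List ℕ).getD i 0) (m + 1)
    Nat.blt 0 x && Nat.blt (x - 1) 63 &&
      Nat.beq (ev (false, [genSeven.getD i 0]) (rows63.getD m 0)) (rows63.getD (x - 1) 0)

theorem label_seven : labelSevenOK = true := by decide +kernel

theorem traC_vec : ∀ i : Fin 7, ∀ m : Fin 63,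
    vec6 (traC (([32, 16, 4, 34, 24, 1, 8] : List ℕ).getD i.val 0) (m.val + 1)) =
      (SpSix.s i).1 *ᵥ vec6 (m.val + 1) := by decide +kernel

theorem vec6_facts : (∀ m : Fin 63, vec6 (m.val + 1) ≠ 0) ∧
    ∀ m l : Fin 63, vec6 (m.val + 1) = vec6 (l.val + 1) → m = l := by
  refine ⟨?_, ?_⟩ <;> decide +kernel

/-- The non-zero vectors in their order. -/
noncomputable def e63 : Fin 63 ≃ {v : Fin 3 ⊕ Fin 3 → ZMod 2 // v ≠ 0} :=
  Equiv.ofBijective (fun m => ⟨vec6 (m.val + 1), vec6_facts.1 m⟩)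
    ⟨fun m l e => vec6_facts.2 m l (congrArg Subtype.val e), fun ⟨v, hv⟩ => by
      rcases vec6_cases v with h | ⟨m, rfl⟩
      · exact absurd h hv
      · exact ⟨m, rfl⟩⟩

/-- The matrix of a symplectic element. -/
noncomputable def matSeven : SpSix.Grp →* Matrix (Fin 3 ⊕ Fin 3) (Fin 3 ⊕ Fin 3) (ZMod 2) where
  toFun g := g.1
  map_one' := rfl
  map_mul' _ _ := rfl

theorem matSeven_keeps (g : SpSix.Grp) (v : Fin 3 ⊕ Fin 3 → ZMod 2) (hv : v ≠ 0) : matSeven g *ᵥ v ≠ 0 := fun h => by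
  have := congrArg (matSeven g⁻¹ *ᵥ ·) h
  simp only [Matrix.mulVec_mulVec, Matrix.mulVec_zero, ← map_mul, inv_mul_cancel, map_one, Matrix.one_mulVec] at this
  exact hv this

/-- The action of the symplectic group on the non-zero vectors. -/
noncomputable def iota63 : SpSix.Grp →* Equiv.Perm (Fin 63) := permHom matSeven matSeven_keeps e63

theorem iota63_inj : Function.Injective iota63 :=
  permHom_injective _ _ _ (fun _ _ e => Subtype.ext e) fun c => Or.inl fun h => by
    simpa using congrFun h c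

theorem rows63_lt : ∀ i < 63, rows63.getD i 0 < 3510 := fun i hi => by
  rw [List.getD_eq_getElem _ _ (len_ok.2.1 ▸ hi)]
  simpa using List.all_eq_true.1 rows_lt _ (List.mem_append_left _ (List.mem_append_right _ (List.getElem_mem _)))

/-- The 63 rows. -/
def P63 : Rows 63 63 :=
  ⟨rows63, 1, len_ok.2.1, rows63_lt, nodup_of_distinct _ rows_distinct.2.1, by norm_num, by norm_num⟩

theorem genSeven_mem (i : Fin 7) : genSeven.getD i.val 0 ∈ genSeven := by
  rw [List.getD_eq_getElem _ _ (by rw [len_ok.2.2.2.2.1]; exact i.2)]; exact List.getElem_mem _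

end CfsgLib.Recog.SporBound.Fi22Outer

namespace CfsgLib.Recog.SporBound.Fi22Pair.Frame

open CfsgLib.Recog.SporBound.Fi22Outer
open CfsgLib.Recog.SporBound.Fi22Aut
open CfsgLib.Schur.Cox
open CfsgLib.Schur.Cox.SpSix (vec6)

variable {A : Type*} [Group A] (F : Frame A)

/-- The transposition of the row 7. -/
noncomputable def aE : A := F.el (false, [7])

/-- The seven generators. -/
noncomputable def fS (i : Fin 7) : A := F.el (false, [genSeven.getD i.val 0])

variable [Finite A]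

theorem rep_one : F.rep3 1 = F.rep3 0 * F.aE :=
  F.eq_of_agree (f := ev (repD 1)) (g := fun c => ev (repD 0) (ev (false, [7]) c)) (F.rep3_spec (by norm_num))
    (F.mul_spec (F.rep3_spec (by norm_num)) (F.el_spec (fits_of_all (by decide +kernel)))) (by decide +kernel)

theorem genOne_spec {r : ℕ} (hr : r ∈ 7 :: genSeven) :
    Fits (false, [r]) ∧ F.el (false, [r]) ∈ F.Fx 0 ∧ F.el (false, [r]) ∈ F.Fx 1 ∧
      ∃ h : F.el (false, [r]) ∈ F.Maps P360, F.proj P360 ⟨_, h⟩ = Equiv.swap 0 2 := by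
  have h := List.all_eq_true.1 maps1 (false, [r]) (List.mem_map.2 ⟨r, hr, rfl⟩)
  simp only [Bool.and_eq_true] at h
  obtain ⟨⟨⟨⟨h0, h1⟩, -⟩, hm⟩, -⟩ := h
  obtain ⟨hf, m0⟩ := F.el_Fx (by norm_num) h0
  obtain ⟨-, m1⟩ := F.el_Fx (by norm_num) h1
  obtain ⟨hmm, hval⟩ := F.mem_maps_el P360 hf hm
  refine ⟨hf, m0, m1, hmm, Equiv.ext fun b => Fin.ext ?_⟩
  rw [hval, show blkImg P360.L P360.d (false, [r]) b = [2, 1, 0].getD b.val 0 from
    Nat.eq_of_beq_eq_true (List.all_eq_true.1 (List.all_eq_true.1 blk_seven r hr) b.val (List.mem_range.2 b.2))]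
  fin_cases b <;> decide

theorem aE_maps : F.MapsP P63 F.aE (iota63 1) := by
  intro i
  refine ⟨i, Fin.ext ?_, by rw [map_one]; rfl⟩
  rw [aE, F.el_spec (F.genOne_spec List.mem_cons_self).1]
  have hm : rows63.getD i.val 0 ∈ rows63 := by
    rw [List.getD_eq_getElem _ _ (by rw [len_ok.2.1]; exact i.2)]; exact List.getElem_mem _
  exact Nat.eq_of_beq_eq_true (List.all_eq_true.1 fix_seven _ hm)

theorem fS_maps (i : Fin 7) : F.MapsP P63 (F.fS i) (iota63 (SpSix.s i)) := by
  intro m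
  have h := List.all_eq_true.1 (List.all_eq_true.1 label_seven i.val (List.mem_range.2 i.2)) m.val
    (List.mem_range.2 m.2)
  simp only [Bool.and_eq_true, Nat.blt_eq] at h
  refine ⟨⟨_, h.1.2⟩, Fin.ext ?_, e63.injective (Subtype.ext ?_)⟩
  · rw [fS, F.el_spec (F.genOne_spec (List.mem_cons_of_mem _ (genSeven_mem i))).1]
    exact Nat.eq_of_beq_eq_true h.2
  · rw [show P63.blk m = m from Fin.ext (Nat.div_one _), iota63, permHom_apply]
    show vec6 ((_ - 1) / 1 + 1) = _
    rw [Nat.div_one, Nat.sub_add_cancel h.1.1, traC_vec]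
    rfl

/-- The generated part of the second fixed group. -/
noncomputable def Ga : Subgroup A := Subgroup.closure ({F.aE} ∪ Set.range F.fS)

theorem Ga_le : F.Ga ≤ (F.Fx 0 ⊓ F.Fx 1) ⊓ (F.Maps P360 ⊓ F.Lifts P63 iota63) := (Subgroup.closure_le _).2 (by
  rintro _ (rfl | ⟨i, rfl⟩)
  · obtain ⟨-, m0, m1, hm, -⟩ := F.genOne_spec (r := 7) List.mem_cons_self
    exact ⟨⟨m0, m1⟩, hm, (F.mem_lifts P63 iota63).2
      ⟨⟨_, F.aE_maps⟩, _, F.mapsP_unique P63 F.aE_maps (F.proj_spec P63 ⟨F.aE, _, F.aE_maps⟩)⟩⟩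
  · obtain ⟨-, m0, m1, hm, -⟩ := F.genOne_spec (List.mem_cons_of_mem _ (genSeven_mem i))
    exact ⟨⟨m0, m1⟩, hm, (F.mem_lifts P63 iota63).2
      ⟨⟨_, F.fS_maps i⟩, _, F.mapsP_unique P63 (F.fS_maps i) (F.proj_spec P63 ⟨F.fS i, _, F.fS_maps i⟩)⟩⟩)

/-- The sign on the blocks with the symplectic map. -/
noncomputable def phiA : F.Ga →* ℤˣ × SpSix.Grp :=
  ((Equiv.Perm.sign.comp (F.proj P360)).comp
      (Subgroup.inclusion (F.Ga_le.trans (inf_le_right.trans inf_le_left)))).prod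
    ((F.lift P63 iota63 iota63_inj).comp (Subgroup.inclusion (F.Ga_le.trans (inf_le_right.trans inf_le_right))))

theorem phiA_el {r : ℕ} (hr : r ∈ 7 :: genSeven) (hm : F.el (false, [r]) ∈ F.Ga) {g : SpSix.Grp}
    (hg : F.MapsP P63 (F.el (false, [r])) (iota63 g)) : F.phiA ⟨_, hm⟩ = (-1, g) := by
  obtain ⟨-, -, -, hmm, hp⟩ := F.genOne_spec hr
  refine Prod.ext ?_ (iota63_inj ?_)
  · show Equiv.Perm.sign (F.proj P360 ⟨F.el (false, [r]), hmm⟩) = -1
    rw [hp, Equiv.Perm.sign_swap (by decide)]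
  · show iota63 (F.lift P63 iota63 iota63_inj _) = iota63 g
    rw [F.lift_spec]
    exact F.mapsP_unique P63 (F.proj_spec P63 _) hg

theorem phiA_surj : Function.Surjective F.phiA := by
  have ha : ((-1, 1) : ℤˣ × SpSix.Grp) ∈ F.phiA.range :=
    ⟨_, F.phiA_el List.mem_cons_self (Subgroup.subset_closure (Or.inl rfl)) F.aE_maps⟩
  have hs : ∀ i, ((1, SpSix.s i) : ℤˣ × SpSix.Grp) ∈ F.phiA.range := fun i => by
    have hi : ((-1, SpSix.s i) : ℤˣ × SpSix.Grp) ∈ F.phiA.range :=
      ⟨_, F.phiA_el (List.mem_cons_of_mem _ (genSeven_mem i)) (Subgroup.subset_closure (Or.inr ⟨i, rfl⟩))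
        (F.fS_maps i)⟩
    have := mul_mem ha hi
    rwa [Prod.mk_mul_mk, one_mul, neg_one_mul, neg_neg] at this
  have hS : ∀ g : SpSix.Grp, ((1, g) : ℤˣ × SpSix.Grp) ∈ F.phiA.range := fun g => by
    have hle : Subgroup.closure (Set.range SpSix.s) ≤ F.phiA.range.comap (MonoidHom.inr ℤˣ SpSix.Grp) :=
      (Subgroup.closure_le _).2 fun _ ⟨i, e⟩ => e ▸ hs i
    rw [SpSix.closure_s] at hle
    exact hle (Subgroup.mem_top g)
  rw [← MonoidHom.range_eq_top, eq_top_iff]
  rintro ⟨e, g⟩ -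
  rcases Int.units_eq_one_or e with rfl | rfl
  · exact hS g
  · have := mul_mem ha (hS g)
    rwa [Prod.mk_mul_mk, mul_one, one_mul] at this

theorem cards1 : F.Ga = F.Fx 1 ∧ Nat.card F.Ga = 2903040 := by
  have h := Nat.card_le_card_of_surjective _ F.phiA_surj
  rw [Nat.card_prod, SpSix.card_grp, Nat.card_eq_fintype_card (α := ℤˣ), Fintype.card_units_int] at h
  have hle : F.Ga ≤ F.Fx 1 := F.Ga_le.trans (inf_le_left.trans inf_le_right)
  have h3 := Subgroup.card_le_of_le hle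
  have h4 := F.card_Fx_le (by norm_num : 1 < 3) bound1
  exact ⟨Subgroup.eq_of_le_of_card_ge hle (by omega), by omega⟩

/-- The fixed group of the second representative inside that of the first. -/
theorem Fx1_eq : F.Fx 1 = F.Fx 0 ⊓ Subgroup.centralizer ({F.aE} : Set A) := by
  have hle : F.Fx 1 ≤ F.Fx 0 := F.cards1.1 ▸ F.Ga_le.trans (inf_le_left.trans inf_le_left)
  refine le_antisymm (fun g hg => ?_) fun g hg => ?_
  · refine ⟨hle hg, Subgroup.mem_centralizer_singleton_iff.2 ?_⟩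
    have h1 : Commute g (F.rep3 1) := (F.mem_Fx.1 hg).2
    have h0 : Commute g (F.rep3 0) := (F.mem_Fx.1 (hle hg)).2
    rw [F.rep_one] at h1
    have := h0.inv_right.mul_right h1
    rwa [inv_mul_cancel_left] at this
  · obtain ⟨h0, ha⟩ := hg
    refine F.mem_Fx.2 ⟨(F.mem_Fx.1 h0).1, ?_⟩
    rw [F.rep_one]
    exact Commute.mul_right (show Commute g (F.rep3 0) from (F.mem_Fx.1 h0).2)
      (show Commute g F.aE from Subgroup.mem_centralizer_singleton_iff.1 ha)

/-- The fixed group of the second representative is a group of order 2 times PSp(6, 2). -/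
theorem Fx1_equiv : Nonempty (F.Fx 1 ≃* Multiplicative (ZMod 2) × Cfsg.PSp 3 (ZMod 2)) := by
  haveI : Fact (Nat.Prime 2) := ⟨Nat.prime_two⟩
  have hb := (Nat.bijective_iff_surjective_and_card F.phiA).2 ⟨F.phiA_surj, by
    rw [F.cards1.2, Nat.card_prod, SpSix.card_grp, Nat.card_eq_fintype_card (α := ℤˣ), Fintype.card_units_int]⟩
  let e1 : ℤˣ ≃* Multiplicative (ZMod 2) := mulEquivOfPrimeCardEq (p := 2)
    (by rw [Nat.card_eq_fintype_card, Fintype.card_units_int]) (by rw [Nat.card_eq_fintype_card]; rfl)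
  let e2 : SpSix.Grp ≃* Cfsg.PSp 3 (ZMod 2) :=
    QuotientGroup.quotientBot.symm.trans (QuotientGroup.quotientMulEquivOfEq (SpSix.center_eq_bot (ZMod.card 2)).symm)
  exact ⟨(MulEquiv.subgroupCongr F.cards1.1).symm.trans
    ((MulEquiv.ofBijective _ hb).trans (MulEquiv.prodCongr e1 e2))⟩

end CfsgLib.Recog.SporBound.Fi22Pair.Frame
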