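import Cfsg.Agent.Lib.Recog.SporBound.Fi22Outer.Inner
import Cfsg.Agent.Lib.Recog.SporBound.Fi22Outer.Checks

set_option autoImplicit false
set_option maxRecDepth 20000

/-!
Words in the kernel and in the transvections for the classes of outer involutions of Fi22 (owner: helper24).
-/

namespace CfsgLib.Recog.SporBound.Fi22Outer

open CfsgLib.Recog.SporBound.Fi22Pair
open CfsgLib.Recog.SporBound.Fi22Aut
open CfsgLib.Recog.SporBound.Fi22U6 (origin base)
open CfsgLib.Recog.SporBound.Fi22Group (act)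

/-- The permutation of a word in the transvections. -/
noncomputable def wP (w : List ℕ) : Equiv.Perm (Fin 45) := (w.map fun k => phi (tv (pt (Fin.ofNat 45 k)))).prod

theorem wP_mem (w : List ℕ) : wP w ∈ N45 :=
  list_prod_mem fun x hx => by
    obtain ⟨k, -, rfl⟩ := List.mem_map.1 hx
    exact Subgroup.subset_closure ⟨_, rfl⟩

theorem tauFn_lt {k m : ℕ} (hk : k < 45) (hm : m < 45) : tauFn k m < 45 := by
  have h := List.all_eq_true.1 (List.all_eq_true.1 (List.all_eq_true.1 tau_ok k (List.mem_range.2 hk))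
    (rep k) (List.contains_iff_mem.1 (Frame.repR_mem ⟨k, hk⟩))) m (List.mem_range.2 hm)
  rw [Bool.and_eq_true, Nat.blt_eq] at h
  exact h.1

theorem wP_val : ∀ (w : List ℕ), (∀ k ∈ w, k < 45) → ∀ m : Fin 45, ((wP w m : Fin 45) : ℕ) = wordFn w m
  | [], _, m => rfl
  | k :: w, h, m => by
    have ih := wP_val w (fun x hx => h x (List.mem_cons_of_mem _ hx)) m
    have hk := h k List.mem_cons_self
    show ((phi (tv (pt (Fin.ofNat 45 k))) (wP w m) : Fin 45) : ℕ) = tauFn k (wordFn w m)
    rw [phi_tv, ← ih]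
    show tauFn (Fin.ofNat 45 k : Fin 45) (wP w m : Fin 45) % 45 = _
    rw [Fin.val_ofNat, Nat.mod_eq_of_lt hk]
    exact Nat.mod_eq_of_lt (tauFn_lt hk (wP w m).2)

theorem move_spec (k : Fin 45) : ∃ g ∈ N45, g 0 = k ∧ ∃ w : List ℕ, (∀ x ∈ w, x < 45) ∧ g = wP w := by
  have h := List.all_eq_true.1 move_ok (k : ℕ) (List.mem_range.2 k.2)
  rw [Bool.and_eq_true, List.all_eq_true] at h
  have hw : ∀ x ∈ moveData.getD k [], x < 45 := fun x hx => by simpa using h.1 x hx
  exact ⟨_, wP_mem _, Fin.ext ((wP_val _ hw 0).trans (Nat.eq_of_beq_eq_true h.2)), _, hw, rfl⟩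

theorem distinct_nodup : ∀ l : List ℕ, distinctB l = true → l.Nodup
  | [], _ => List.nodup_nil
  | a :: l, h => by
    rw [distinctB, Bool.and_eq_true, List.all_eq_true] at h
    exact List.nodup_cons.2 ⟨fun ha => by simpa using h.1 a ha, distinct_nodup l h.2⟩

theorem wordCode_congr {v w : List ℕ} (h : ∀ m < 45, wordFn v m = wordFn w m) : wordCode v = wordCode w := by
  have key : ∀ (l : List ℕ), (∀ m ∈ l, m < 45) → ∀ a, l.foldl (fun a m => a * 64 + wordFn v m) a =
      l.foldl (fun a m => a * 64 + wordFn w m) a := by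
    intro l
    induction l with
    | nil => intros; rfl
    | cons m l ih =>
      intro hl a
      rw [List.foldl_cons, List.foldl_cons, h m (hl m List.mem_cons_self)]
      exact ih (fun x hx => hl x (List.mem_cons_of_mem _ hx)) _
  exact key _ (fun m hm => List.mem_range.1 hm) 0

theorem stab_list {n : Equiv.Perm (Fin 45)} (hn : n ∈ N45) (h0 : n 0 = 0) :
    ∃ e ∈ stabData, (∀ k ∈ e.1, k < 45) ∧ n = wP e.1 := by
  classical
  obtain ⟨hok, hlen, -⟩ := stab_ok
  have hdat : ∀ e ∈ stabData, (∀ k ∈ e.1, k < 45) ∧ wP e.1 0 = 0 := fun e he => by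
    have h := List.all_eq_true.1 hok e he
    rw [Bool.and_eq_true, List.all_eq_true] at h
    have hw : ∀ k ∈ e.1, k < 45 := fun k hk => by simpa using h.1 k hk
    exact ⟨hw, Fin.ext ((wP_val _ hw 0).trans (Nat.eq_of_beq_eq_true h.2))⟩
  set S := MulAction.stabilizer N45 (0 : Fin 45)
  have hS : Nat.card S = 576 := by
    have horb : MulAction.orbit N45 (0 : Fin 45) = Set.univ := Set.eq_univ_of_forall fun k => by
      obtain ⟨g, hg, hgk, -⟩ := move_spec k
      exact ⟨⟨g, hg⟩, hgk⟩
    have h1 := S.index_mul_card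
    rw [MulAction.index_stabilizer, horb, Set.ncard_univ, Nat.card_fin, card_n45] at h1
    omega
  let f : Fin stabData.length → S := fun i =>
    ⟨⟨wP (stabData[i]).1, wP_mem _⟩, (hdat _ (List.getElem_mem _)).2⟩
  have hnd : (stabData.map fun e => wordCode e.1).Nodup := distinct_nodup _ stab_distinct
  have hf : Function.Injective f := fun i j e => by
    have e' : wP (stabData[i]).1 = wP (stabData[j]).1 := congrArg (fun x : S => ((x : N45) : Equiv.Perm (Fin 45))) e
    have hc := wordCode_congr (v := (stabData[i]).1) (w := (stabData[j]).1) fun m hm => by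
      have h1 := wP_val _ (hdat _ (List.getElem_mem i.2)).1 ⟨m, hm⟩
      have h2 := wP_val _ (hdat _ (List.getElem_mem j.2)).1 ⟨m, hm⟩
      exact h1.symm.trans ((congrArg (fun p : Equiv.Perm (Fin 45) => ((p ⟨m, hm⟩ : Fin 45) : ℕ)) e').trans h2)
    refine Fin.ext ((hnd.getElem_inj_iff (hi := by rw [List.length_map]; exact i.2)
      (hj := by rw [List.length_map]; exact j.2)).1 ?_)
    simp only [List.getElem_map]
    exact hc
  have hbij := (Nat.bijective_iff_injective_and_card f).2 ⟨hf, by rw [Nat.card_fin, hlen, hS]⟩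
  obtain ⟨i, hi⟩ := hbij.2 ⟨⟨n, hn⟩, h0⟩
  exact ⟨_, List.getElem_mem i.2, (hdat _ (List.getElem_mem i.2)).1,
    (congrArg (fun x : S => ((x : N45) : Equiv.Perm (Fin 45))) hi).symm⟩

end CfsgLib.Recog.SporBound.Fi22Outer

namespace CfsgLib.Recog.SporBound.Fi22Pair.Frame

open CfsgLib.Recog.SporBound.Fi22Outer
open CfsgLib.Recog.SporBound.Fi22Aut
open CfsgLib.Recog.SporBound.Fi22U6 (origin base)
open CfsgLib.Recog.SporBound.Fi22Group (act)

variable {A : Type*} [Group A] (F : Frame A)

/-- The product of a list of data. -/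
noncomputable def seq (l : List (Bool × List ℕ)) : A := (l.map F.el).prod

theorem seq_spec : ∀ {l : List (Bool × List ℕ)}, (∀ e ∈ l, Fits e) → ∀ c : Row,
    ((F.θ (F.seq l) c : Row) : ℕ) = evSeq l c
  | [], _, c => by rw [seq, List.map_nil, List.prod_nil, map_one]; rfl
  | e :: l, h, c => F.mul_spec (f := ev e) (g := evSeq l) (F.el_spec (h e List.mem_cons_self))
      (seq_spec fun x hx => h x (List.mem_cons_of_mem _ hx)) c

theorem seq_append (p q : List (Bool × List ℕ)) : F.seq (p ++ q) = F.seq p * F.seq q := by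
  rw [seq, seq, seq, List.map_append, List.prod_append]

theorem gK_inner (k : Fin 45) : ((F.gK k : F.C) : A) ∈ F.Inner :=
  F.el_inner (by intro x hx; rw [List.mem_singleton.1 hx]; exact (repR k).2)

theorem gK_origin (k : Fin 45) : F.θ ((F.gK k : F.C) : A) origin = origin := by
  have h := (inB_iff _).2 ⟨k, repR_mem k⟩
  simp only [inB, Bool.and_eq_true] at h
  show F.θ (F.gT (repR k)) origin = origin
  rw [gT, F.el_T]
  exact com_symm ((comB_iff origin (repR k)).1 h.1.1)

/-- The element of a word in the transvections. -/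
noncomputable def gW (w : List ℕ) : F.C := (w.map fun k => F.gK (Fin.ofNat 45 k)).prod

theorem psi_gW (w : List ℕ) : F.psi (F.gW w) = wP w := by
  rw [gW, map_list_prod, wP, List.map_map]
  exact congrArg List.prod (List.map_congr_left fun k _ => F.psi_gK _)

theorem gW_inner (w : List ℕ) : ((F.gW w : F.C) : A) ∈ F.Inner ∧ F.θ ((F.gW w : F.C) : A) origin = origin := by
  induction w with
  | nil => exact ⟨one_mem _, by rw [gW, List.map_nil, List.prod_nil, Subgroup.coe_one, map_one]; rfl⟩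
  | cons k w ih =>
    refine ⟨?_, ?_⟩ <;> rw [gW, List.map_cons, List.prod_cons, Subgroup.coe_mul]
    · exact mul_mem (F.gK_inner _) ih.1
    · rw [map_mul, Equiv.Perm.mul_apply]
      exact (congrArg _ ih.2).trans (F.gK_origin _)

theorem gW_seq : ∀ (w : List ℕ), (∀ k ∈ w, k < 45) → ((F.gW w : F.C) : A) = F.seq (gSeq w)
  | [], _ => rfl
  | k :: w, h => by
    have ih := gW_seq w fun x hx => h x (List.mem_cons_of_mem _ hx)
    rw [gW, List.map_cons, List.prod_cons, Subgroup.coe_mul, gSeq, List.map_cons, seq, List.map_cons, List.prod_cons]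
    refine congrArg₂ (· * ·) ?_ ih
    show F.el (false, [((repR (Fin.ofNat 45 k) : Row) : ℕ)]) = F.el (false, [rep k])
    rw [show ((repR (Fin.ofNat 45 k) : Row) : ℕ) = rep k from
      congrArg rep (Nat.mod_eq_of_lt (h k List.mem_cons_self))]

theorem gSeq_fits {w : List ℕ} (h : ∀ k ∈ w, k < 45) : ∀ e ∈ gSeq w, Fits e := fun e he => by
  obtain ⟨k, hk, rfl⟩ := List.mem_map.1 he
  intro r hr
  rw [List.mem_singleton.1 hr]
  exact (repR ⟨k, h k hk⟩).2

theorem qSeq_fits : ∀ n ≤ 5, ∀ q ∈ qSeqs n, ∀ e ∈ q, Fits e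
  | 0, _, q, hq, e, he => by
    rcases List.mem_pair.1 hq with rfl | rfl
    · exact absurd he List.not_mem_nil
    · rw [List.mem_singleton.1 he]; exact fits_z
  | n + 1, hn, q, hq, e, he => by
    rw [qSeqs, List.mem_flatMap] at hq
    obtain ⟨p, hp, hq⟩ := hq
    obtain ⟨q', hq', rfl⟩ := List.mem_map.1 hq
    rcases List.mem_append.1 he with he | he
    · have : e = uEl n ∨ e = vEl n := by
        simp only [List.mem_cons, List.not_mem_nil, or_false] at hp
        rcases hp with rfl | rfl | rfl | rfl <;> simp at he <;> tauto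
      rcases this with rfl | rfl
      exacts [(ker_spec (uEl_mem (by omega)).1).1, (ker_spec (uEl_mem (by omega)).2).1]
    · exact qSeq_fits n (by omega) q' hq' e he

theorem exists_qSeq [Finite A] : ∀ n ≤ 5, ∀ {x : A}, x ∈ hull F.jz F.uA F.vA n → ∃ q ∈ qSeqs n, x = F.seq q
  | 0, _, x, hx => by
    obtain ⟨k, rfl⟩ := hx
    rcases Int.even_or_odd' k with ⟨m, rfl | rfl⟩
    · refine ⟨[], by simp [qSeqs], ?_⟩
      show F.jz ^ (2 * m) = _
      rw [zpow_mul, show F.jz ^ (2 : ℤ) = 1 by rw [zpow_two, F.jz_sq], one_zpow]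
      rfl
    · refine ⟨[zData], by simp [qSeqs], ?_⟩
      show F.jz ^ (2 * m + 1) = _
      rw [zpow_add, zpow_mul, show F.jz ^ (2 : ℤ) = 1 by rw [zpow_two, F.jz_sq], one_zpow, one_mul, zpow_one]
      exact (mul_one _).symm
  | n + 1, hn, x, hx => by
    obtain ⟨a, b, h, hh, rfl⟩ := (F.pairs.mono hn).exists_rep4 hx
    obtain ⟨q, hq, rfl⟩ := exists_qSeq n (by omega) hh
    refine ⟨cond a (cond b [uEl n, vEl n] [uEl n]) (cond b [vEl n] []) ++ q, ?_, ?_⟩
    · rw [qSeqs, List.mem_flatMap]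
      exact ⟨_, by cases a <;> cases b <;> simp, List.mem_map.2 ⟨q, hq, rfl⟩⟩
    · rw [seq_append]
      congr 1
      cases a <;> cases b <;> simp [Pairs.rep4, seq, uA, vA]

theorem exists_qSeq' [Finite A] {x : A} (hx : x ∈ F.Qs) : ∃ q ∈ qSeqs 5, x = F.seq q :=
  F.exists_qSeq 5 le_rfl (F.cards.2.2 ▸ hx)

end CfsgLib.Recog.SporBound.Fi22Pair.Frame
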