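import Cfsg.Agent.Lib.Recog.SporBound.Fi22Outer.Act
import Cfsg.Agent.Lib.Recog.SporBound.Fi22Outer.Bound
import Cfsg.Agent.Lib.Schur.Coxeter.OmegaData
import Cfsg.Agent.Lib.Recog.SporBound.Fi22Outer.ZeroChecks.Basic

set_option autoImplicit false
set_option maxRecDepth 20000

/-!
The fixed group of the first representative: an extension of Ω⁺(8, 2) by the symmetric group of degree 3,
acting faithfully on Ω⁺(8, 2) (owner: helper24).
-/

namespace CfsgLib.Recog.SporBound.Fi22Outer

open CfsgLib.Recog.SporBound.Fi22Pair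
open CfsgLib.Schur.Cox
open CfsgLib.Schur.Cox.OmegaEight (vec8 nonsing nonsing_spec)
open scoped Matrix

/-- The nonsingular vectors in their order. -/
noncomputable def e8 : Fin 120 ≃ {v : Fin 4 ⊕ Fin 4 → ZMod 2 // Cfsg.quadFormPlus 4 (ZMod 2) v = 1} :=
  Equiv.ofBijective (fun k => ⟨vec8 (nonsing.getD k.val 0), nonsing_fit.2.2.1 k⟩)
    ⟨fun k l e => nonsing_fit.2.2.2 k l (congrArg Subtype.val e), fun ⟨v, hv⟩ => by
      rcases nonsing_spec v with h | ⟨k, rfl⟩
      · exact absurd (hv.symm.trans h) (by decide)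
      · exact ⟨k, rfl⟩⟩

/-- The matrix of an isometry. -/
noncomputable def matEight : OmegaEight.Grp →* Matrix (Fin 4 ⊕ Fin 4) (Fin 4 ⊕ Fin 4) (ZMod 2) where
  toFun g := OmegaEight.mat g
  map_one' := rfl
  map_mul' _ _ := rfl

theorem matEight_keeps (g : OmegaEight.Grp) (v : Fin 4 ⊕ Fin 4 → ZMod 2)
    (hv : Cfsg.quadFormPlus 4 (ZMod 2) v = 1) : Cfsg.quadFormPlus 4 (ZMod 2) (matEight g *ᵥ v) = 1 :=
  (g.2 v v : Cfsg.quadFormPlus 4 (ZMod 2) (matEight g *ᵥ v) = Cfsg.quadFormPlus 4 (ZMod 2) v).trans hv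

/-- The action of the orthogonal group on the nonsingular vectors. -/
noncomputable def iota8 : OmegaEight.Grp →* Equiv.Perm (Fin 120) :=
  permHom matEight (P := fun v => Cfsg.quadFormPlus 4 (ZMod 2) v = 1) matEight_keeps e8

theorem iota8_inj : Function.Injective iota8 :=
  permHom_injective _ _ _ (fun _ _ e => OmegaEight.ext_mat e) fun c => (span_eight c).imp_right
    fun ⟨a, ha⟩ => ⟨_, nonsing_fit.2.2.1 a, ha⟩

theorem rows360_lt : ∀ i < 360, rows360.getD i 0 < 3510 := fun i hi => by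
  have h := len_ok.1
  rw [List.getD_eq_getElem _ _ (h ▸ hi)]
  simpa using List.all_eq_true.1 rows_lt _ (List.mem_append_left _ (List.mem_append_left _ (List.getElem_mem _)))

/-- The three blocks. -/
def P360 : Rows 360 3 :=
  ⟨rows360, 120, len_ok.1, rows360_lt, nodup_of_distinct _ rows_distinct.1, by norm_num, by norm_num⟩

theorem first_len : (rows360.take 120).length = 120 := by rw [List.length_take, len_ok.1]; rfl

theorem first_getD {i : ℕ} (hi : i < 120) : (rows360.take 120).getD i 0 = rows360.getD i 0 := by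
  rw [List.getD_eq_getElem _ _ (first_len.symm ▸ hi), List.getD_eq_getElem _ _ (by rw [len_ok.1]; omega),
    List.getElem_take]

/-- The first block. -/
def P120 : Rows 120 120 :=
  ⟨rows360.take 120, 1, first_len, fun i hi => by rw [first_getD hi]; exact rows360_lt i (by omega),
    (nodup_of_distinct _ rows_distinct.1).sublist (List.take_sublist _ _), by norm_num, by norm_num⟩

theorem genEight_mem (i : Fin 8) : genEight.getD i.val 0 ∈ genEight := by
  rw [List.getD_eq_getElem _ _ (by rw [len_ok.2.2.2.1]; exact i.2)]; exact List.getElem_mem _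

theorem swapRows_mem (k : Fin 2) : swapRows.getD k.val 0 ∈ swapRows := by
  rw [List.getD_eq_getElem _ _ (by rw [len_ok.2.2.2.2.2.2.2.2.2.1]; exact k.2)]; exact List.getElem_mem _

end CfsgLib.Recog.SporBound.Fi22Outer

namespace CfsgLib.Recog.SporBound.Fi22Pair.Frame

open CfsgLib.Recog.SporBound.Fi22Outer
open CfsgLib.Recog.SporBound.Fi22Aut
open CfsgLib.Recog.SporBound.Fi22Group (act)
open CfsgLib.Recog.SporBound.Fi22U6 (origin base stab_eq orbit_iff)
open CfsgLib.ThreeTrans.CosetIndex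
open CfsgLib.Schur.Cox
open CfsgLib.Schur.Cox.OmegaEight (vec8 nonsing)

variable {A : Type*} [Group A] (F : Frame A)

theorem proj_val {n k : ℕ} (P : Rows n k) {α : A} (h : α ∈ F.Maps P) {f : ℕ → ℕ}
    (hf : ∀ c : Row, ((F.θ α c : Row) : ℕ) = f c) (b : Fin k) :
    ((F.proj P ⟨α, h⟩ b : Fin k) : ℕ) = P.L.idxOf (f (P.L.getD (b * P.d) 0)) / P.d := by
  obtain ⟨j, hj, hb⟩ := F.proj_spec P ⟨α, h⟩ (P.fst b)
  rw [P.blk_fst] at hb
  have e := congrArg (fun r : Row => (r : ℕ)) hj
  simp only [hf] at e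
  rw [← hb]
  show (j : ℕ) / P.d = _
  congr 1
  have e' : f (P.L.getD ((b : ℕ) * P.d) 0) = P.L.getD (j : ℕ) 0 := e
  rw [e', idxOf_getD P.nodup (by rw [P.len]; exact j.2)]

variable [Finite A]

theorem el_Fx {i : ℕ} (hi : i < 3) {w : List ℕ} (h : commB i (false, w) = true) :
    Fits (false, w) ∧ F.el (false, w) ∈ F.Fx i := by
  simp only [commB, Bool.and_eq_true] at h
  have hf : Fits (false, w) := fits_of_all h.1
  exact ⟨hf, F.mem_Fx.2 ⟨F.el_inner hf,
    F.eq_of_agree (F.mul_spec (F.el_spec hf) (F.rep3_spec hi)) (F.mul_spec (F.rep3_spec hi) (F.el_spec hf)) h.2⟩⟩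

/-- The eight generators. -/
noncomputable def fE (i : Fin 8) : A := F.el (false, [genEight.getD i.val 0])

theorem fE_spec (i : Fin 8) : Fits (false, [genEight.getD i.val 0]) ∧ F.fE i ∈ F.Fx 0 ∧ F.fE i ∈ F.Maps P360 := by
  have h := List.all_eq_true.1 maps0 (false, [genEight.getD i.val 0])
    (List.mem_map.2 ⟨_, List.mem_append_left _ (genEight_mem i), rfl⟩)
  rw [Bool.and_eq_true] at h
  obtain ⟨hf, hm⟩ := F.el_Fx (by norm_num) h.1
  exact ⟨hf, hm, (F.mem_maps_el P360 hf h.2).1⟩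

theorem fE_proj (i : Fin 8) (b : Fin 3) :
    ((F.proj P360 ⟨F.fE i, (F.fE_spec i).2.2⟩ b : Fin 3) : ℕ) = [0, 2, 1].getD b.val 0 := by
  exact (F.proj_val P360 _ (f := ev (false, [genEight.getD i.val 0])) (F.el_spec (F.fE_spec i).1) b).trans
    (Nat.eq_of_beq_eq_true (List.all_eq_true.1 (List.all_eq_true.1 blk_eight _ (genEight_mem i)) b.val
      (List.mem_range.2 b.2)))

theorem fE_maps (i : Fin 8) : F.MapsP P120 (F.fE i) (iota8 (OmegaEight.r i)) := by
  intro k
  have h := List.all_eq_true.1 (List.all_eq_true.1 label_eight i.val (List.mem_range.2 i.2)) k.val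
    (List.mem_range.2 k.2)
  simp only [Bool.and_eq_true, Nat.blt_eq] at h
  refine ⟨⟨_, h.1⟩, Fin.ext ?_, e8.injective (Subtype.ext ?_)⟩
  · rw [fE, F.el_spec (F.fE_spec i).1]
    show ev _ ((rows360.take 120).getD k.val 0) = (rows360.take 120).getD _ 0
    rw [first_getD k.2, first_getD h.1]
    exact Nat.eq_of_beq_eq_true h.2
  · rw [show P120.blk k = k from Fin.ext (Nat.div_one _), iota8, permHom_apply]
    show vec8 (nonsing.getD ((nonsing.idxOf _) / 1) 0) = _
    rw [Nat.div_one, getD_idxOf (by rw [nonsing_fit.1]; exact h.1), refC_vec]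
    rfl

theorem fE_lifts (i : Fin 8) : F.fE i ∈ F.Lifts P120 iota8 :=
  (F.mem_lifts P120 iota8).2 ⟨⟨_, F.fE_maps i⟩, _, F.mapsP_unique P120 (F.fE_maps i) (F.proj_spec P120 ⟨F.fE i, _, F.fE_maps i⟩)⟩

/-- The stabiliser of the first block. -/
noncomputable def R0 : Subgroup A := Subgroup.closure (Set.range F.fE)

theorem R0_le : F.R0 ≤ F.Fx 0 ⊓ F.Maps P360 ⊓ F.Lifts P120 iota8 :=
  (Subgroup.closure_le _).2 fun _ ⟨i, e⟩ => e ▸ ⟨⟨(F.fE_spec i).2.1, (F.fE_spec i).2.2⟩, F.fE_lifts i⟩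

/-- The map to the orthogonal group. -/
noncomputable def rho : F.R0 →* OmegaEight.Grp :=
  (F.lift P120 iota8 iota8_inj).comp (Subgroup.inclusion (F.R0_le.trans inf_le_right))

theorem rho_fE (i : Fin 8) : F.rho ⟨F.fE i, Subgroup.subset_closure ⟨i, rfl⟩⟩ = OmegaEight.r i :=
  iota8_inj (by
    rw [rho, MonoidHom.comp_apply, F.lift_spec]
    exact F.mapsP_unique P120 (F.proj_spec P120 _) (F.fE_maps i))

theorem rho_surj : Function.Surjective F.rho := by
  rw [← MonoidHom.range_eq_top, eq_top_iff, ← OmegaEight.closure_r, Subgroup.closure_le]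
  rintro _ ⟨i, rfl⟩
  exact ⟨_, F.rho_fE i⟩

theorem card_R0_ge : 348364800 ≤ Nat.card F.R0 := by
  have h := Nat.card_le_card_of_surjective _ F.rho_surj
  rw [OmegaEight.card_grp] at h
  norm_num [EightBound.cardQ] at h
  exact h

/-- The generated part of the fixed group. -/
noncomputable def Gz : Subgroup A :=
  Subgroup.closure (Set.range F.fE ∪ Set.range fun k : Fin 2 => F.el (false, [swapRows.getD k.val 0]))

theorem swap_spec (k : Fin 2) : Fits (false, [swapRows.getD k.val 0]) ∧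
    F.el (false, [swapRows.getD k.val 0]) ∈ F.Fx 0 ∧ F.el (false, [swapRows.getD k.val 0]) ∈ F.Maps P360 := by
  have h := List.all_eq_true.1 maps0 (false, [swapRows.getD k.val 0])
    (List.mem_map.2 ⟨_, List.mem_append_right _ (swapRows_mem k), rfl⟩)
  rw [Bool.and_eq_true] at h
  obtain ⟨hf, hm⟩ := F.el_Fx (by norm_num) h.1
  exact ⟨hf, hm, (F.mem_maps_el P360 hf h.2).1⟩

theorem Gz_le : F.Gz ≤ F.Fx 0 ⊓ F.Maps P360 := (Subgroup.closure_le _).2 (by
  rintro _ (⟨i, rfl⟩ | ⟨k, rfl⟩)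
  exacts [⟨(F.fE_spec i).2.1, (F.fE_spec i).2.2⟩, ⟨(F.swap_spec k).2.1, (F.swap_spec k).2.2⟩])

theorem R0_le_Gz : F.R0 ≤ F.Gz := Subgroup.closure_mono Set.subset_union_left

/-- The action on the three blocks. -/
noncomputable def blk3 : F.Gz →* Equiv.Perm (Fin 3) :=
  (F.proj P360).comp (Subgroup.inclusion (F.Gz_le.trans inf_le_right))

/-- The elements keeping the first block. -/
noncomputable def St0 : Subgroup F.Gz := (MulAction.stabilizer (Equiv.Perm (Fin 3)) (0 : Fin 3)).comap F.blk3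

theorem fE_St0 : F.R0.subgroupOf F.Gz ≤ F.St0 := by
  intro x hx
  suffices h : F.R0 ≤ F.St0.map F.Gz.subtype by
    obtain ⟨y, hy, e⟩ := h (Subgroup.mem_subgroupOf.1 hx)
    exact Subtype.ext e ▸ hy
  refine (Subgroup.closure_le _).2 ?_
  rintro _ ⟨i, rfl⟩
  refine ⟨⟨F.fE i, Subgroup.subset_closure (Or.inl ⟨i, rfl⟩)⟩, ?_, rfl⟩
  exact MulAction.mem_stabilizer_iff.2 (Fin.ext (F.fE_proj i 0))

theorem cards0 : F.Gz = F.Fx 0 ∧ Nat.card F.Gz = 1045094400 ∧ Nat.card F.R0 = 348364800 ∧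
    F.St0 = F.R0.subgroupOf F.Gz ∧ Nat.card F.blk3.range = 6 := by
  have horb : ∀ b : Fin 3, ∃ x : F.Gz, F.blk3 x 0 = b := by
    intro b
    fin_cases b
    · exact ⟨1, by rw [map_one]; rfl⟩
    · refine ⟨⟨_, Subgroup.subset_closure (Or.inr ⟨1, rfl⟩)⟩, Fin.ext ?_⟩
      exact (F.proj_val P360 _ (fun c => F.el_spec (F.swap_spec 1).1 c) 0).trans
        (Nat.eq_of_beq_eq_true (List.all_eq_true.1 swap_blk 1 (List.mem_range.2 (by norm_num))))
    · refine ⟨⟨_, Subgroup.subset_closure (Or.inr ⟨0, rfl⟩)⟩, Fin.ext ?_⟩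
      exact (F.proj_val P360 _ (fun c => F.el_spec (F.swap_spec 0).1 c) 0).trans
        (Nat.eq_of_beq_eq_true (List.all_eq_true.1 swap_blk 0 (List.mem_range.2 (by norm_num))))
  letI act3 : MulAction F.Gz (Fin 3) := MulAction.compHom (Fin 3) F.blk3
  have hidx : F.St0.index = 3 := by
    rw [show F.St0 = MulAction.stabilizer F.Gz (0 : Fin 3) from Subgroup.ext fun _ => Iff.rfl,
      MulAction.index_stabilizer, show MulAction.orbit F.Gz (0 : Fin 3) = Set.univ from
        Set.eq_univ_of_forall fun b => horb b, Set.ncard_univ, Nat.card_fin]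
  have h0 := F.card_R0_ge
  have h1 := Subgroup.card_le_of_le F.fE_St0
  rw [Nat.card_congr (Subgroup.subgroupOfEquivOfLe F.R0_le_Gz).toEquiv] at h1
  have h2 := F.St0.index_mul_card
  rw [hidx] at h2
  have h3 := Subgroup.card_le_of_le (F.Gz_le.trans inf_le_left)
  have h4 := F.card_Fx_le (by norm_num : 0 < 3) bound0
  have hR : Nat.card F.R0 = 348364800 := by omega
  have hG : Nat.card F.Gz = 1045094400 := by omega
  refine ⟨Subgroup.eq_of_le_of_card_ge (F.Gz_le.trans inf_le_left) (by omega), hG, hR,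
    (Subgroup.eq_of_le_of_card_ge F.fE_St0 (by
      rw [Nat.card_congr (Subgroup.subgroupOfEquivOfLe F.R0_le_Gz).toEquiv]; omega)).symm, ?_⟩
  -- the group of block permutations
  set B := F.blk3.range
  have hB : (MulAction.stabilizer B (0 : Fin 3)).index = 3 := by
    rw [MulAction.index_stabilizer, show MulAction.orbit B (0 : Fin 3) = Set.univ from
      Set.eq_univ_of_forall fun b => by
        obtain ⟨x, hx⟩ := horb b
        exact ⟨⟨_, x, rfl⟩, hx⟩, Set.ncard_univ, Nat.card_fin]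
  have hB2 : 2 ≤ Nat.card (MulAction.stabilizer B (0 : Fin 3)) := by
    refine Nat.succ_le_of_lt (Finite.one_lt_card_iff_nontrivial.2 ⟨⟨⟨⟨_, ⟨F.fE 0, Subgroup.subset_closure
      (Or.inl ⟨0, rfl⟩)⟩, rfl⟩, ?_⟩, 1, fun e => ?_⟩⟩)
    · exact MulAction.mem_stabilizer_iff.2 (Fin.ext (F.fE_proj 0 0))
    · have := congrArg (fun p : Equiv.Perm (Fin 3) => ((p 1 : Fin 3) : ℕ))
        (congrArg (fun x : MulAction.stabilizer B (0 : Fin 3) => ((x : B) : Equiv.Perm (Fin 3))) e)
      have h5 : ((F.blk3 ⟨F.fE 0, Subgroup.subset_closure (Or.inl ⟨0, rfl⟩)⟩ 1 : Fin 3) : ℕ) = 2 := F.fE_proj 0 1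
      simp [h5] at this
  have h6 := (MulAction.stabilizer B (0 : Fin 3)).index_mul_card
  rw [hB] at h6
  have h7 : Nat.card B ≤ 6 := by
    refine le_trans (Subgroup.card_le_card_group B) (le_of_eq ?_)
    rw [Nat.card_perm, Nat.card_fin]; rfl
  omega

/-- The kernel of the action on the blocks. -/
noncomputable abbrev N8 : Subgroup F.Gz := F.blk3.ker

theorem card_N8 : Nat.card F.N8 = 174182400 := by
  have h := F.blk3.ker.card_mul_index
  rw [Subgroup.index_ker, F.cards0.2.2.2.2, F.cards0.2.1] at h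
  show Nat.card F.blk3.ker = _
  omega

theorem N8_le_R0 {x : F.Gz} (hx : x ∈ F.N8) : (x : A) ∈ F.R0 := by
  have h : x ∈ F.St0 := MulAction.mem_stabilizer_iff.2 (by rw [MonoidHom.mem_ker.1 hx]; rfl)
  rw [F.cards0.2.2.2.1] at h
  exact h

/-- The kernel inside the orthogonal group. -/
noncomputable def nu : F.N8 →* OmegaEight.Grp :=
  F.rho.comp ((F.Gz.subtype.comp F.N8.subtype).codRestrict F.R0 fun x => F.N8_le_R0 x.2)

theorem rho_inj : Function.Injective F.rho :=
  ((Nat.bijective_iff_surjective_and_card F.rho).2 ⟨F.rho_surj, by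
    rw [F.cards0.2.2.1, OmegaEight.card_grp]
    norm_num [EightBound.cardQ]⟩).1

theorem nu_inj : Function.Injective F.nu := fun x y e =>
  Subtype.ext (Subtype.ext (congrArg (fun z : F.R0 => (z : A)) (F.rho_inj e)))

theorem range_nu : F.nu.range = OmegaEight.Om := by
  have hcard : Nat.card F.nu.range = 174182400 :=
    (Nat.card_congr (MonoidHom.ofInjective F.nu_inj).toEquiv).symm.trans F.card_N8
  have hidx : F.nu.range.index = 2 := by
    have h := F.nu.range.index_mul_card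
    rw [hcard, OmegaEight.card_grp] at h
    simp only [EightBound.cardQ] at h
    omega
  haveI := Subgroup.normal_of_index_eq_two hidx
  have hle : OmegaEight.Om ≤ F.nu.range := by
    show commutator OmegaEight.Grp ≤ F.nu.range
    rw [← Subgroup.Normal.quotient_commutative_iff_commutator_le]
    haveI : Fact (Nat.Prime 2) := ⟨Nat.prime_two⟩
    haveI : IsCyclic (OmegaEight.Grp ⧸ F.nu.range) :=
      isCyclic_of_prime_card (p := 2) (by rw [← Subgroup.index_eq_card]; exact hidx)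
    exact IsCyclic.commutative
  exact (Subgroup.eq_of_le_of_card_ge hle (le_of_eq (by rw [hcard, OmegaEight.card_Om]))).symm

/-- The kernel is Ω⁺(8, 2). -/
noncomputable def N8equiv : F.N8 ≃* OmegaEight.Om :=
  (MonoidHom.ofInjective F.nu_inj).trans (MulEquiv.subgroupCongr F.range_nu)

theorem exists_mover {r s : Row} (h : com r s) (hne : r ≠ s) :
    ∃ δ : A, F.θ δ origin = r ∧ F.θ δ base = s := by
  set s' : Row := act (gr r)⁻¹ s
  have hs : act (gr r) s' = s := by
    rw [← Equiv.Perm.mul_apply, ← map_mul, mul_inv_cancel, map_one, Equiv.Perm.one_apply]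
  have hr0 : act (gr r) origin = r := gr_origin r
  have h1 : com origin s' := (com_act (gr r)).1 (by rw [hr0, hs]; exact h)
  have h2 : origin ≠ s' := fun e => hne (by rw [← hr0, e, hs])
  have h3 := eq_of_beq (List.all_eq_true.1 nbr_ok s' (List.mem_range.2 s'.2))
  rw [show comB 0 s' = true from (comB_iff origin s').2 h1, Bool.true_and,
    show Nat.beq (s' : ℕ) 0 = false from Bool.eq_false_iff.2 fun e => h2 (Fin.ext (Nat.eq_of_beq_eq_true e).symm)]
    at h3
  obtain ⟨k, hk, e⟩ := (orbit_iff s').1 (show Fi22U6.inO s' from h3)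
  obtain ⟨δ, hδ⟩ := F.inner (gr r * k)
  refine ⟨δ, ?_, ?_⟩ <;> rw [hδ, map_mul, Equiv.Perm.mul_apply]
  · rw [stab_eq.2 hk, hr0]
  · rw [e, hs]

/-- An element commuting with a product of two commuting transpositions permutes the two rows. -/
theorem pair_perm {r s : Row} (h : com r s) (hne : r ≠ s) {α : A}
    (hc : α * F.el (false, [(r : ℕ), (s : ℕ)]) = F.el (false, [(r : ℕ), (s : ℕ)]) * α) :
    F.θ α r = r ∨ F.θ α r = s := by
  obtain ⟨δ, h0, h7⟩ := F.exists_mover h hne
  have hx : F.el (false, [(r : ℕ), (s : ℕ)]) = δ * F.jz * δ⁻¹ := by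
    refine F.injective (Equiv.ext fun c => ?_)
    have hf : Fits (false, [(r : ℕ), (s : ℕ)]) := by
      intro x hx
      simp only [List.mem_cons, List.not_mem_nil, or_false] at hx
      rcases hx with rfl | rfl
      exacts [r.2, s.2]
    rw [show F.θ (F.el (false, [(r : ℕ), (s : ℕ)])) c = act (T r) (act (T s) c) from Fin.ext (by
      rw [F.el_spec hf, ← trace_pal, ← trace_pal]; rfl), map_mul, map_mul, Equiv.Perm.mul_apply,
      Equiv.Perm.mul_apply, F.jz_eq, Equiv.Perm.mul_apply, F.equi, F.equi, h0, h7, map_inv, Equiv.Perm.coe_inv,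
      Equiv.apply_symm_apply]
  have hC : δ⁻¹ * α * δ ∈ F.C := Subgroup.mem_centralizer_singleton_iff.2 (by
    rw [hx] at hc
    calc δ⁻¹ * α * δ * F.jz = δ⁻¹ * (α * (δ * F.jz * δ⁻¹)) * δ := by group
      _ = F.jz * (δ⁻¹ * α * δ) := by rw [hc]; group)
  have h1 := ((F.mem_C_iff _).1 hC).1
  have key : ∀ p : Row, F.θ (δ⁻¹ * α * δ) origin = p → F.θ α r = F.θ δ p := fun p e => by
    rw [← e, map_mul, map_mul, Equiv.Perm.mul_apply, Equiv.Perm.mul_apply, h0, map_inv, Equiv.Perm.coe_inv,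
      Equiv.apply_symm_apply]
  rcases (isPt_iff _).1 h1 with e | e
  exacts [Or.inl ((key _ e).trans h0), Or.inr ((key _ e).trans h7)]

theorem conj_inj : Function.Injective (MulAut.conjNormal (H := F.N8)) := by
  rw [← MonoidHom.ker_eq_bot_iff, Subgroup.eq_bot_iff_forall]
  intro k hk
  have hfix : ∀ i : Fin 120, F.θ (k : A) (P120.R i) = P120.R i := by
    intro i
    have h := List.all_eq_true.1 partner_ok i.val (List.mem_range.2 i.2)
    simp only [Bool.and_eq_true, List.all_eq_true, Nat.blt_eq, Bool.not_eq_true', Nat.beq_eq] at h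
    obtain ⟨⟨hlen, hne⟩, hall⟩ := h
    set p := partnerData.getD i.val []
    have hR : ((P120.R i : Row) : ℕ) = rows360.getD i.val 0 := first_getD i.2
    have step : ∀ q ∈ p, F.θ (k : A) (P120.R i) = P120.R i ∨ ((F.θ (k : A) (P120.R i) : Row) : ℕ) = q := by
      intro q hq
      obtain ⟨⟨⟨⟨hq1, hq2⟩, hq3⟩, hq4⟩, hq5⟩ := hall q hq
      set s : Row := ⟨q, hq1⟩
      obtain ⟨hf, hx⟩ := F.el_Fx (by norm_num : 0 < 3) hq4
      rw [← hR] at hq2 hf hx
      have hxG : F.el (false, [((P120.R i : Row) : ℕ), (s : ℕ)]) ∈ F.Gz := by rw [F.cards0.1]; exact hx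
      have hxN : (⟨_, hxG⟩ : F.Gz) ∈ F.N8 := MonoidHom.mem_ker.2 (Equiv.ext fun b => Fin.ext (by
        refine (F.proj_val P360 _ (fun c => F.el_spec hf c) b).trans ?_
        rw [hR]
        exact hq5 b.val (List.mem_range.2 b.2)))
      have hcm := congrArg (fun y : F.N8 => (((y : F.Gz) : A)))
        (DFunLike.congr_fun (MonoidHom.mem_ker.1 hk) (⟨⟨_, hxG⟩, hxN⟩ : F.N8))
      have hcm' : (k : A) * F.el (false, [((P120.R i : Row) : ℕ), (s : ℕ)]) * (k : A)⁻¹ =
          F.el (false, [((P120.R i : Row) : ℕ), (s : ℕ)]) := hcm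
      rcases F.pair_perm ((comB_iff (P120.R i) s).1 hq2) (fun e => by
          rw [e] at hR
          rw [← hR] at hq3
          exact Bool.noConfusion (hq3.symm.trans (Nat.beq_refl q))) (mul_inv_eq_iff_eq_mul.1 hcm') with e | e
      · exact Or.inl e
      · exact Or.inr (congrArg Fin.val e)
    have m0 : p.getD 0 0 ∈ p ∧ p.getD 1 0 ∈ p := by
      constructor <;> rw [List.getD_eq_getElem _ _ (by rw [hlen]; norm_num)] <;> exact List.getElem_mem _
    rcases step _ m0.1 with e | e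
    · exact e
    rcases step _ m0.2 with e' | e'
    · exact e'
    exfalso
    rw [← e, ← e', Nat.beq_refl] at hne
    exact Bool.noConfusion hne
  have hk0 : k ∈ F.St0 := MulAction.mem_stabilizer_iff.2 (Fin.ext (by
    obtain ⟨j, hj, hb⟩ := F.proj_spec P360 (Subgroup.inclusion (F.Gz_le.trans inf_le_right) k) ⟨0, by norm_num⟩
    have e : P120.R 0 = P360.R ⟨0, by norm_num⟩ := Fin.ext (first_getD (i := 0) (by norm_num))
    have h := hfix 0
    rw [e] at h
    obtain rfl := P360.R_inj (h.symm.trans hj)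
    exact (congrArg Fin.val hb).symm))
  rw [F.cards0.2.2.2.1] at hk0
  have hρ : F.rho ⟨(k : A), hk0⟩ = 1 := iota8_inj (by
    rw [map_one, rho, MonoidHom.comp_apply, F.lift_spec]
    exact F.mapsP_unique P120 (F.proj_spec P120 _) fun i => ⟨i, hfix i, rfl⟩)
  have := F.rho_inj (hρ.trans (map_one _).symm)
  exact Subtype.ext (congrArg (fun z : F.R0 => (z : A)) this)

/-- The fixed group is the automorphism group of Ω⁺(8, 2). -/
theorem Fx0_equiv (hAut : Nat.card (MulAut OmegaEight.Om) ≤ 1045094400) :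
    Nonempty (F.Fx 0 ≃* MulAut OmegaEight.Om) := by
  let e := MulAut.congr F.N8equiv
  haveI : Finite (MulAut OmegaEight.Om) := Finite.of_injective _ DFunLike.coe_injective
  let f : F.Gz →* MulAut OmegaEight.Om := e.toMonoidHom.comp MulAut.conjNormal
  have hf : Function.Injective f := e.injective.comp F.conj_inj
  have h := Nat.card_le_card_of_injective f hf
  have hb := (Nat.bijective_iff_injective_and_card f).2 ⟨hf, le_antisymm h (F.cards0.2.1 ▸ hAut)⟩
  exact ⟨(MulEquiv.subgroupCongr F.cards0.1).symm.trans (MulEquiv.ofBijective f hb)⟩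

end CfsgLib.Recog.SporBound.Fi22Pair.Frame
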